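import Cfsg.Agent.Known.OrthOut.Chi
import Cfsg.Agent.Known.OrthAut.Forms
import Cfsg.Agent.Known.FieldAutLight

/-!
The outer automorphism group of `Ω_{2m+1}(q)`.
-/

set_option autoImplicit false
set_option linter.unusedSectionVars false
set_option linter.style.haveILetI false

namespace Cfsg.Lib.OrthOut

open Matrix Cfsg.Lib.Classical Cfsg.Lib.Classical.Refl Cfsg.Lib.OrthAut
open Cfsg.Lib.OrthSim (GO gm semiPO induced_semi_iff induced_iff glS conjPO toGO scal pair_comp semiPO_mul mu mu_spec)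

universe u

/-- A split extension by a kernel of order two. -/
theorem split_two {O C : Type*} [Group O] [Group C] (χ : O →* C) (s : C →* O) (hs : ∀ c, χ (s c) = c) {z : O}
    (hz : z * z = 1) (hz1 : z ≠ 1) (hker : ∀ o, χ o = 1 ↔ o = 1 ∨ o = z) :
    Nonempty (O ≃* Multiplicative (ZMod 2) × C) := by
  have hcent : ∀ o, o * z = z * o := fun o => by
    have h : χ (o * z * o⁻¹) = 1 := by
      rw [map_mul, map_mul, (hker z).2 (Or.inr rfl), mul_one, map_inv, mul_inv_cancel]
    rcases (hker _).1 h with e | e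
    · exact absurd (conj_eq_one_iff.1 e) hz1
    · exact mul_inv_eq_iff_eq_mul.1 e
  have hz2 : z ^ 2 = 1 := by rw [pow_two, hz]
  set a := OrthSim.cycLift z hz2
  have hval : ∀ t, a t = 1 ∨ a t = z := fun t => by
    show OrthSim.zpw 2 z t.toAdd = 1 ∨ OrthSim.zpw 2 z t.toAdd = z
    have h := ZMod.val_lt t.toAdd
    rw [OrthSim.zpw]
    rcases (show t.toAdd.val = 0 ∨ t.toAdd.val = 1 by omega) with e | e <;> simp [e]
  have hc : ∀ t c, Commute (a t) (s c) := fun t c => by
    rcases hval t with e | e <;> rw [e]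
    · exact Commute.one_left _
    · exact (hcent (s c)).symm
  set Φ := MonoidHom.noncommCoprod a s hc
  refine ⟨(MulEquiv.ofBijective Φ ⟨?_, ?_⟩).symm⟩
  · rw [injective_iff_map_eq_one]
    rintro ⟨t, c⟩ h
    change a t * s c = 1 at h
    have h1 := congrArg χ h
    rw [map_mul, hs, map_one, (hker (a t)).2 (hval t), one_mul] at h1
    subst h1
    rw [map_one, mul_one] at h
    have h0 : t = 1 := by
      change OrthSim.zpw 2 z t.toAdd = 1 at h
      have hlt := ZMod.val_lt t.toAdd
      rcases (show t.toAdd.val = 0 ∨ t.toAdd.val = 1 by omega) with e | e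
      · exact Multiplicative.toAdd.injective ((ZMod.val_eq_zero _).1 e)
      · rw [OrthSim.zpw, e, pow_one] at h
        exact absurd h hz1
    rw [h0]; rfl
  · intro o
    have h : χ (o * (s (χ o))⁻¹) = 1 := by rw [map_mul, map_inv, hs, mul_inv_cancel]
    rcases (hker _).1 h with e | e
    · refine ⟨(1, χ o), ?_⟩
      show a 1 * s (χ o) = o
      rw [map_one, one_mul, ← mul_inv_eq_one.1 e]
    · refine ⟨(Multiplicative.ofAdd 1, χ o), ?_⟩
      show a (Multiplicative.ofAdd 1) * s (χ o) = o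
      rw [show a (Multiplicative.ofAdd 1) = z from pow_one z, ← e, inv_mul_cancel_right]

/-- Cyclic groups of automorphisms of a finite field. -/
theorem galois_equiv {F : Type*} [Field F] [Fintype F] {p f : ℕ} [Fact p.Prime] (hF : Fintype.card F = p ^ f) :
    Nonempty ((F ≃+* F) ≃* Multiplicative (ZMod f)) := by
  obtain ⟨c, hc⟩ := CharP.exists F
  have hcp : c = p := by
    obtain ⟨e, hcp, he⟩ := FiniteField.card F c
    exact (Nat.prime_dvd_prime_iff_eq hcp Fact.out).1 (hcp.dvd_of_dvd_pow (hF ▸ he ▸ dvd_pow_self c e.ne_zero))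
  subst hcp
  obtain ⟨hcyc, hcard⟩ := Known.FieldLight.ringAut_facts (F := F) c f hF
  exact ⟨(zmodCyclicMulEquiv hcyc).symm.trans
    (AddEquiv.toMultiplicative (ZMod.ringEquivCongr hcard).toAddEquiv)⟩

theorem prod_equiv {A : Type*} [Group A] {f : ℕ} {O : Type*} [Group O] {n : ℕ} (e : O ≃* Multiplicative (ZMod n) × A)
    (e' : A ≃* Multiplicative (ZMod f)) : Nonempty (O ≃* Multiplicative (ZMod n × ZMod f)) :=
  ⟨e.trans (((MulEquiv.refl _).prodCongr e').trans
    { toFun := fun x => Multiplicative.ofAdd (x.1.toAdd, x.2.toAdd)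
      invFun := fun x => (Multiplicative.ofAdd x.toAdd.1, Multiplicative.ofAdd x.toAdd.2)
      left_inv := fun _ => rfl
      right_inv := fun _ => rfl
      map_mul' := fun _ _ => rfl })⟩

variable {F : Type u} [Field F] [Fintype F] [DecidableEq F]

section Std

variable {ι : Type} [Fintype ι] [DecidableEq ι] {Q : QuadraticForm F (ι → F)}

/-- The standard field automorphisms, for forms with coefficients in the prime field. -/
noncomputable def fieldAut (hQσ : ∀ (σ : F ≃+* F) (v : ι → F), Q (fun i => σ (v i)) = σ (Q v)) :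
    (F ≃+* F) →* MulAut (Cfsg.POmega F (⇑Q)) :=
  MonoidHom.mk' (fun σ => semiPO (1 : GL ι F) σ ⟨1, fun v => by
      rw [Units.val_one, one_mulVec, Units.val_one, one_mul, hQσ]⟩) fun σ τ => by
    refine (semiPO_congr _ (pair_comp ⟨1, fun v => ?_⟩ ⟨1, fun v => ?_⟩) rfl fun x => ?_).trans
      (semiPO_mul (g := (1 : GL ι F)) (h := (1 : GL ι F)) (σ := σ) (τ := τ) _ _).symm
    · rw [Units.val_one, one_mulVec, Units.val_one, one_mul, hQσ]
    · rw [Units.val_one, one_mulVec, Units.val_one, one_mul, hQσ]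
    · show _ = semiMap ((1 : GL ι F) * glS σ 1) (τ.trans σ) x
      rw [semiMap_comp]
      simp [semiMap]

end Std

variable {m : ℕ} (h2 : (2 : F) ≠ 0) (hm : 3 ≤ m)

local notation "QO" => oddForm m F
local notation "ιO" => Unit ⊕ (Fin m ⊕ Fin m)

include h2 hm

omit [DecidableEq F] in
theorem good_odd : Good (oddForm m F) := ⟨oddForm_nondegenerate h2 m, by simp; omega⟩

omit [DecidableEq F] in
theorem narrow_odd : Narrow (oddForm m F) := by
  have hn : Fintype.card ιO = 2 * m + 1 := by simp; omega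
  rcases Nat.lt_or_ge m 4 with h | h
  · exact Or.inr fun T hT => by have := finrank_ts_le (oddForm_nondegenerate h2 m) hT; omega
  · exact Or.inl (by omega)

/-- Similitudes in odd dimension are scalar multiples of rotations. -/
theorem odd_decomp (x : GO QO) : ∃ (c : Fˣ) (s : Cfsg.isometryGroup F (⇑QO)),
    detHom QO s = 1 ∧ x = scal QO c * toGO QO s := by
  have G := good_odd (F := F) h2 hm
  have hn : Fintype.card ιO = 2 * m + 1 := by simp; omega
  have h1 := OrthSim.det_sq' QO G.nd G.big x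
  rw [hn] at h1
  set μ := (mu QO x : F) with hμ
  have hμ0 : μ ≠ 0 := Units.ne_zero _
  set d := Matrix.GeneralLinearGroup.det (x : GL ιO F) with hd
  set c : Fˣ := d / mu QO x ^ m with hc
  have hcc : c * c = mu QO x := Units.ext (by
    rw [hc, Units.val_mul, Units.val_div_eq_div_val, Units.val_pow_eq_pow_val, ← hμ, div_mul_div_comm, ← pow_two,
      show ((d : F) : F) = (gm QO x).det from rfl, h1, ← pow_add, pow_succ, two_mul, mul_div_cancel_left₀ _
      (pow_ne_zero _ hμ0)])
  obtain ⟨s, hs⟩ := OrthSim.exists_iso_of_mu QO G.nd G.big (g := scal QO c⁻¹ * x)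
    (by rw [OrthSim.mu_mul QO G.nd G.big, OrthSim.mu_scal QO G.nd G.big, ← mul_inv, hcc, inv_mul_cancel])
  refine ⟨c, s, ?_, by rw [← hs, ← mul_assoc, ← map_mul, mul_inv_cancel, map_one, one_mul]⟩
  refine Units.ext ?_
  show (mat QO s).det = ((1 : Fˣ) : F)
  rw [← OrthSim.gm_toGO, ← hs, OrthSim.gm_mul, OrthSim.gm_scal, Matrix.smul_mul, Matrix.one_mul, det_smul, hn,
    show (gm QO x).det = (d : F) from rfl, Units.val_one]
  have e : (d : F) = (c : F) ^ (2 * m + 1) := by
    have e1 : (d : F) = (c : F) * μ ^ m := by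
      rw [hc, Units.val_div_eq_div_val, Units.val_pow_eq_pow_val, ← hμ, div_mul_cancel₀ _ (pow_ne_zero _ hμ0)]
    rw [e1, hμ, ← hcc, Units.val_mul]
    ring
  rw [e, Units.val_inv_eq_inv_val, inv_pow, inv_mul_cancel₀ (pow_ne_zero _ (Units.ne_zero _))]

theorem out_odd {p f : ℕ} [Fact p.Prime] (hF : Fintype.card F = p ^ f) (φ : (ιO → F) → F) (hφ : φ = ⇑QO) :
    Nonempty (Cfsg.Out (Cfsg.POmega F φ) ≃* Multiplicative (ZMod 2 × ZMod f)) := by
  subst hφ
  have G := good_odd (F := F) h2 hm
  have hH := narrow_odd (F := F) h2 hm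
  have hn2 : 2 ≤ Fintype.card ιO := by have := G.big; omega
  have hodd : Fintype.card ιO = 2 * m + 1 := by simp; omega
  obtain ⟨a, b, ha, hb, hne⟩ := exists_spin_ne QO h2 G.nd hn2
  set d : Cfsg.isometryGroup F (⇑QO) := refl QO a ha * refl QO b hb
  have hd1 : detHom QO d = 1 := by rw [map_mul, detHom_refl, detHom_refl, neg_mul_neg, one_mul]
  have hdspin : spin QO d = -1 := by
    rw [map_mul]
    rcases Int.units_eq_one_or (spin QO (refl QO a ha)) with h | h <;>
      rcases Int.units_eq_one_or (spin QO (refl QO b hb)) with h' | h' <;> simp_all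
  set z : Cfsg.Out (Cfsg.POmega F (⇑QO)) := outC (toGO QO d)
  have hz1 : z ≠ 1 := by
    intro h
    obtain ⟨c, s, hs, e⟩ := (outC_eq_one_iff G).1 h
    have hs' := (mem_omega_iff QO h2 G.nd hn2).1 hs
    have hcs : ∀ x, mat QO d *ᵥ x = (c : F) • (mat QO s *ᵥ x) := fun x => by
      rw [← OrthSim.gm_toGO, e, OrthSim.gm_mul, OrthSim.gm_scal, Matrix.smul_mul, Matrix.one_mul, smul_mulVec,
        OrthSim.gm_toGO]
    have hdet : ((detHom QO d : Fˣ) : F) = (c : F) ^ (2 * m + 1) * ((detHom QO s : Fˣ) : F) := by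
      show (mat QO d).det = _ * (mat QO s).det
      rw [← OrthSim.gm_toGO, e, OrthSim.gm_mul, OrthSim.gm_scal, Matrix.smul_mul, Matrix.one_mul, det_smul, hodd,
        OrthSim.gm_toGO]
    have hmu := congrArg (mu QO) e
    rw [OrthSim.mu_mul QO G.nd G.big, OrthSim.mu_scal QO G.nd G.big, OrthSim.mu_toGO QO G.nd G.big,
      OrthSim.mu_toGO QO G.nd G.big, mul_one] at hmu
    have hc2 : (c : F) * c = 1 := by rw [← Units.val_mul, ← hmu, Units.val_one]
    rw [hd1, hs'.1, Units.val_one, mul_one, pow_succ, pow_mul, pow_two, hc2, one_pow, one_mul] at hdet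
    have hds : d = s := ext_mulVec QO fun x => by rw [hcs, ← hdet, one_smul]
    rw [hds, hs'.2] at hdspin
    exact absurd hdspin (by decide)
  have hker : ∀ o, chiO G hH o = 1 ↔ o = 1 ∨ o = z := by
    intro o
    constructor
    · intro h
      obtain ⟨x, rfl⟩ := (mem_ker_chiO G hH o).1 h
      obtain ⟨c, s, hs, rfl⟩ := odd_decomp h2 hm x
      have e : outC (scal QO c * toGO QO s) = outC (toGO QO s) := by
        rw [map_mul, (outC_eq_one_iff G).2 ⟨c, 1, one_mem _, by rw [map_one, mul_one]⟩, one_mul]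
      rw [e]
      rcases Int.units_eq_one_or (spin QO s) with hsp | hsp
      · exact Or.inl ((outC_eq_one_iff G).2
          ⟨1, s, (mem_omega_iff QO h2 G.nd hn2).2 ⟨hs, hsp⟩, by rw [map_one, one_mul]⟩)
      · refine Or.inr ?_
        rw [← mul_inv_eq_one]
        show outC (toGO QO s) * (outC (toGO QO d))⁻¹ = 1
        rw [← map_inv, ← map_mul, ← map_inv (toGO QO), ← map_mul (toGO QO)]
        refine (outC_eq_one_iff G).2 ⟨1, _, (mem_omega_iff QO h2 G.nd hn2).2 ⟨?_, ?_⟩, by rw [map_one, one_mul]⟩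
        · rw [map_mul, map_inv, hs, hd1, inv_one, one_mul]
        · rw [map_mul, map_inv, hsp, hdspin, mul_inv_cancel]
    · rintro (rfl | rfl)
      · exact map_one _
      · exact chi_conjPO G hH _
  have hz : z * z = 1 := by
    have h : chiO G hH (z * z) = 1 := by rw [map_mul, (hker z).2 (Or.inr rfl), mul_one]
    rcases (hker _).1 h with e | e
    · exact e
    · exact absurd (mul_left_cancel (e.trans (mul_one z).symm)) hz1
  have hQσ : ∀ (σ : F ≃+* F) (v : ιO → F), QO (fun i => σ (v i)) = σ (QO v) := fun σ v => by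
    simp [oddForm_coe, Cfsg.quadFormOdd, map_sum]
  obtain ⟨e⟩ := split_two (chiO G hH)
    ((QuotientGroup.mk' (Cfsg.Inn (Cfsg.POmega F (⇑QO)))).comp (fieldAut hQσ)) (fun σ => chi_semi G hH _) hz hz1 hker
  obtain ⟨e'⟩ := galois_equiv hF
  exact prod_equiv e e'

end Cfsg.Lib.OrthOut
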