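import Cfsg.Agent.Known.OrthOut.Minus
import Cfsg.Agent.Known.OrthOut.Odd
import Cfsg.Agent.Known.OrthField.PlusCase
import Cfsg.Agent.Known.OrthSim.Plus

/-!
The outer automorphism group of `PΩ⁺_{2m}(q)` for `m ≥ 5`.
-/

set_option autoImplicit false
set_option linter.unusedSectionVars false
set_option linter.style.haveILetI false

namespace Cfsg.Lib.OrthOut

open Matrix Cfsg.Lib.Classical Cfsg.Lib.Classical.Refl Cfsg.Lib.OrthAut
open Cfsg.Lib.OrthSim (GO gm semiPO induced_semi_iff induced_iff glS conjPO toGO scal pair_comp semiPO_mul mu mu_spec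
  NN Setup)

universe u

section Kernel

variable {F : Type u} [Field F] [Fintype F] [DecidableEq F] {ι : Type} [Fintype ι] [DecidableEq ι]
  {Q : QuadraticForm F (ι → F)} (G : Good Q) (hH : Narrow Q)

/-- The kernel of the field part is the group of outer classes of similitudes. -/
theorem ker_equiv {B : Type*} [Group B] (ψ : ↥(Cfsg.pgoAut F (⇑Q)) →* B) (hψ : Function.Surjective ψ)
    (hψk : ψ.ker = (Cfsg.Inn (Cfsg.POmega F (⇑Q))).subgroupOf (Cfsg.pgoAut F (⇑Q))) :
    Nonempty (B ≃* (chiO G hH).ker) := by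
  let M : ↥(Cfsg.pgoAut F (⇑Q)) →* (chiO G hH).ker :=
    ((QuotientGroup.mk' (Cfsg.Inn (Cfsg.POmega F (⇑Q)))).comp (Subgroup.subtype _)).codRestrict _ fun α => by
      have h1 := α.2
      simp only [OrthSim.pgoAut_eq] at h1
      obtain ⟨x, -, hx⟩ := h1
      show chiO G hH (QuotientGroup.mk α.1) = 1
      rw [← hx]
      exact chi_conjPO G hH x
  have hMs : Function.Surjective M := by
    rintro ⟨o, ho⟩
    obtain ⟨x, rfl⟩ := (mem_ker_chiO G hH o).1 ho
    exact ⟨⟨conjPO Q x, by rw [OrthSim.pgoAut_eq]; exact ⟨x, trivial, rfl⟩⟩, Subtype.ext rfl⟩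
  have hMk : M.ker = ψ.ker := by
    ext α
    rw [hψk, MonoidHom.mem_ker, Subgroup.mem_subgroupOf, Subtype.ext_iff]
    exact QuotientGroup.eq_one_iff _
  exact ⟨(QuotientGroup.quotientKerEquivOfSurjective ψ hψ).symm.trans
    ((QuotientGroup.quotientMulEquivOfEq hMk.symm).trans (QuotientGroup.quotientKerEquivOfSurjective M hMs))⟩

end Kernel

variable {F : Type u} [Field F] [Fintype F] [DecidableEq F] {m : ℕ} (hm : 5 ≤ m)

local notation "ιP" => Fin m ⊕ Fin m
local notation "QP" => HypQuad.plusForm m F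

include hm

/-- A rational reflection and its fixed behaviour under the field automorphisms. -/
theorem exists_rational_refl : ∃ (v : ιP → F) (hv : QP v ≠ 0), ∀ σ : F ≃+* F,
    glS σ ((toGO QP (refl QP v hv) : GO QP) : GL ιP F) = ((toGO QP (refl QP v hv) : GO QP) : GL ιP F) := by
  let i : Fin m := ⟨0, by omega⟩
  let v : ιP → F := Pi.single (Sum.inl i) 1 + Pi.single (Sum.inr i) 1
  have hv : QP v ≠ 0 := by
    simp [v, HypQuad.plusForm_apply, Cfsg.quadFormPlus, Pi.single_apply]
  refine ⟨v, hv, fun σ => Units.ext (Matrix.toLin'.injective (LinearMap.ext fun x => ?_))⟩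
  obtain ⟨u, rfl⟩ : ∃ u : ιP → F, (fun j => σ (u j)) = x :=
    ⟨fun j => σ.symm (x j), funext fun j => σ.apply_symm_apply _⟩
  have hfix : ∀ j, σ (v j) = v j := fun j => by
    rcases j with j | j <;> rcases eq_or_ne j i with rfl | hj <;> simp [v, *]
  rw [Matrix.toLin'_apply, Matrix.toLin'_apply, OrthSim.coe_glS]
  exact (funext fun j => RingHom.map_mulVec σ.toRingHom _ u j).symm.trans (OrthField.refl_commute σ hv hfix u)

variable {p f : ℕ} [Fact p.Prime] [CharP F p]

set_option maxHeartbeats 1600000 in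
theorem out_plus_odd (h2 : (2 : F) ≠ 0) (hf : 1 ≤ f) (hF : Fintype.card F = p ^ f) (φ : (ιP → F) → F)
    (hφ : φ = ⇑QP) :
    if Fintype.card F % 4 = 3 ∧ Odd m then
      Nonempty (Cfsg.Out (Cfsg.POmega F φ) ≃* Multiplicative (ZMod 2 × ZMod 2 × ZMod f))
    else Nonempty (Cfsg.Out (Cfsg.POmega F φ) ≃* DihedralGroup 4 × Multiplicative (ZMod f)) := by
  subst hφ
  haveI : NeZero f := ⟨by omega⟩
  have G := OrthField.good_plus (F := F) (m := m) (by omega)
  have hH := OrthField.narrow_plus (F := F) (m := m) hm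
  let S := OrthSim.setupP (m := m) h2 (by omega)
  obtain ⟨v, hv, hvσ⟩ := exists_rational_refl (F := F) hm
  set R : GO QP := toGO QP (refl QP v hv)
  have hχ : ∀ x : GO QP, chiO G hH (outC x) = 1 := fun x => chi_conjPO G hH x
  set σ0 : F ≃+* F := frobeniusEquiv F p
  have hord : orderOf σ0 = f := (order_frobenius (F := F) hf hF).1
  set α := fieldAut (Q := QP) (fun σ => OrthField.fixes_plus σ) σ0 with hα
  set φ : Cfsg.Out (Cfsg.POmega F (⇑QP)) := QuotientGroup.mk α
  have hchiφ : chiO G hH φ = σ0 := chi_semi G hH _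
  have hφf : φ ^ f = 1 := by
    rw [← QuotientGroup.mk_pow, hα, ← map_pow, show σ0 ^ f = 1 from hord ▸ pow_orderOf_eq_one σ0, map_one]
    rfl
  have hconj : ∀ x : GO QP, ∃ x' : GO QP, S.e x' = S.e x ∧ S.t x' = S.t x ∧
      (x' : GL ιP F) = glS σ0 (x : GL ιP F) ∧ φ * outC x = outC x' * φ := by
    intro x
    have hp : Cfsg.IsSemisimilarityPair (⇑QP) (1 : GL ιP F) σ0 := ⟨1, fun w => by
      rw [Units.val_one, one_mulVec, Units.val_one, one_mul]; exact OrthField.fixes_plus σ0 w⟩
    obtain ⟨x', e, h⟩ := semi_conj hp x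
    obtain ⟨he, ht⟩ := semi_conj_inv S hp e
    exact ⟨x', he, ht, by rw [e, one_mul, inv_one, mul_one], congrArg QuotientGroup.mk h⟩
  set z := outC S.s0
  have hz2 : z * z = 1 := map_sq_one' S S.s0_sq
  have hsplit : ∀ x y : GO QP, S.e x = S.e y → S.t x = S.t y → outC x = outC y ∨ outC x = outC y * z := by
    intro x y he ht
    have hk : y⁻¹ * x ∈ S.K := S.mem_K.2 ⟨by rw [map_mul, map_inv, he, inv_mul_cancel],
      by rw [map_mul, map_inv, ht, inv_mul_cancel]⟩
    rcases split_outC S hk hz2 with h | h <;> rw [map_mul, map_inv, inv_mul_eq_iff_eq_mul] at h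
    · exact Or.inl (h.trans (mul_one _))
    · exact Or.inr h
  -- `z` is central
  have hzc : ∀ x : GO QP, outC x * z = z * outC x := by
    intro x
    rcases hsplit (x * S.s0 * x⁻¹) S.s0 (by rw [map_mul, map_mul, map_inv, mul_inv_cancel_comm])
      (by rw [map_mul, map_mul, map_inv, mul_inv_cancel_comm]) with h | h <;>
      rw [map_mul, map_mul, map_inv, mul_inv_eq_iff_eq_mul] at h
    · exact h
    · have h1 : z = 1 := by
        have h3 : outC x * z = outC x := by rw [h, hz2, one_mul]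
        exact mul_eq_left.1 h3
      rw [h1, mul_one, one_mul]
  have hφz : φ * z = z * φ := by
    obtain ⟨x', he, ht, -, h⟩ := hconj S.s0
    rcases hsplit x' S.s0 he ht with h3 | h3 <;> rw [h3] at h
    · exact h
    · rw [hz2, one_mul] at h
      have h1 : z = 1 := mul_eq_left.1 h
      rw [h1, mul_one, one_mul]
  set a := outC R
  have ha2 : a * a = 1 := map_sq_one outC (map_sq_one (toGO QP) (refl_mul_self _ _ _))
  have hφa : φ * a = a * φ := by
    obtain ⟨x', -, -, e, h⟩ := hconj R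
    rwa [show x' = R from Subtype.ext (e.trans (hvσ σ0))] at h
  have heR : S.e R = -1 := by rw [Setup.e, OrthSim.eps_toGO, detHom_refl]
  have htR : S.t R = 1 := by rw [S.t_eq_one_iff, OrthSim.mu_toGO QP S.hQ S.hn]; exact IsSquare.one
  set d := outC S.D
  -- the lift of the Frobenius
  obtain ⟨t, htf, htχ, hta, htd, htz⟩ : ∃ t : Cfsg.Out (Cfsg.POmega F (⇑QP)), t ^ f = 1 ∧
      chiO G hH t = σ0 ∧ t * a = a * t ∧ t * d = d * t ∧ t * z = z * t := by
    obtain ⟨x', he, ht, -, h⟩ := hconj S.D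
    rcases hsplit x' S.D he ht with h3 | h3 <;> rw [h3] at h
    · exact ⟨φ, hφf, hchiφ, hφa, h, hφz⟩
    by_cases hz1 : z = 1
    · refine ⟨φ, hφf, hchiφ, hφa, ?_, hφz⟩
      rwa [hz1, mul_one] at h
    have hneg : Setup.NegMem QP := by
      by_contra hneg
      exact hz1 ((outC_eq_one' S).2 (S.K_eq_NN hneg ▸ S.s0_mem))
    have had : a * d = d * z * a := by
      have hb : outC S.b0 * d * (outC S.b0)⁻¹ = d * z := by
        rcases hsplit (S.b0 * S.D * S.b0⁻¹) S.D (by rw [map_mul, map_mul, map_inv, mul_inv_cancel_comm])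
          (by rw [map_mul, map_mul, map_inv, mul_inv_cancel_comm]) with h1 | h1
        · refine absurd ((outC_eq_one' S).1 ?_) (S.comm_notMem hneg)
          rw [map_mul, h1, map_inv, mul_inv_cancel]
        · rwa [map_mul, map_mul, map_inv] at h1
      rcases hsplit R S.b0 (heR.trans S.e_b0.symm) (htR.trans S.t_b0.symm) with h1 | h1
      · rw [show a = outC S.b0 from h1, ← hb]; group
      · rw [show a = outC S.b0 * z from h1, mul_assoc, ← hzc S.D, ← mul_assoc,
          show outC S.b0 * d = d * z * outC S.b0 by rw [← hb]; group, mul_assoc (d * z)]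
    have hfe : Even f := by
      by_contra hfo
      obtain ⟨j, hj⟩ := Nat.not_even_iff_odd.1 hfo
      have hn : ∀ n, φ ^ n * d = d * z ^ n * φ ^ n := by
        intro n
        induction n with
        | zero => simp
        | succ n ih =>
          have hc : φ * z ^ n = z ^ n * φ := (Commute.pow_right hφz n).eq
          calc φ ^ (n + 1) * d = φ * (φ ^ n * d) := by rw [pow_succ', mul_assoc]
            _ = (φ * d) * z ^ n * φ ^ n := by rw [ih]; simp only [mul_assoc]
            _ = d * z * (φ * z ^ n) * φ ^ n := by rw [h]; simp only [mul_assoc, d]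
            _ = d * z ^ (n + 1) * φ ^ (n + 1) := by rw [hc, pow_succ' z, pow_succ' φ]; simp only [mul_assoc]
      have h1 := hn f
      rw [hφf, one_mul, mul_one, hj, pow_succ, pow_mul, pow_two, hz2, one_pow, one_mul] at h1
      exact hz1 (mul_eq_left.1 h1.symm)
    refine ⟨a * φ, ?_, by rw [map_mul, hchiφ, hχ, one_mul], ?_, ?_, ?_⟩
    · rw [Commute.mul_pow hφa.symm, hφf, mul_one]
      obtain ⟨j, rfl⟩ := hfe
      rw [← two_mul, pow_mul, pow_two, ha2, one_pow]
    · rw [mul_assoc, hφa]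
    · rw [mul_assoc, h, ← mul_assoc, ← mul_assoc, had, mul_assoc (d * z) a z, hzc R, ← mul_assoc (d * z),
        mul_assoc d z z, hz2, mul_one, ← mul_assoc]
    · rw [mul_assoc, hφz, ← mul_assoc, hzc R, mul_assoc]
  have hcomm : ∀ o, chiO G hH o = 1 → t * o = o * t := by
    intro o ho
    obtain ⟨x, rfl⟩ := (mem_ker_chiO G hH o).1 ho
    have key : ∀ y : GO QP, Commute t (outC y) → S.e x = S.e y → S.t x = S.t y → t * outC x = outC x * t := by
      intro y hy he ht
      rcases hsplit x y he ht with h | h <;> rw [h]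
      · exact hy
      · exact hy.mul_right htz
    rcases OrthSim.eps_pm QP S.hQ S.hn S.hk x with he | he <;> rcases S.t_pm x with ht | ht
    · refine key 1 (by rw [map_one]; exact Commute.one_right t) ?_ ?_ <;> rw [map_one] <;> assumption
    · exact key S.D htd (he.trans S.hD1.symm) (ht.trans S.t_D.symm)
    · exact key R hta (he.trans heR.symm) (ht.trans htR.symm)
    · refine key (R * S.D) (by rw [map_mul]; exact Commute.mul_right hta htd) ?_ ?_
      · rw [map_mul, heR, show S.e S.D = 1 from S.hD1, mul_one]; exact he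
      · rw [map_mul, htR, S.t_D, one_mul]; exact ht
  have hG : Nat.card (F ≃+* F) = f := (Known.FieldLight.ringAut_facts (F := F) p f hF).2
  have hto : orderOf (chiO G hH t) = f := by rw [htχ, hord]
  have hodd : Odd (Fintype.card F) := Nat.odd_iff.2 (FiniteField.odd_card_of_char_ne_two S.hc2)
  have hnegiff := OrthSim.negMem_plus (m := m) h2 (by omega) hodd
  split_ifs with hc
  · obtain ⟨ψ, hψ, hψk⟩ := S.pgo_mod_inn_one fun h => hnegiff.1 h ⟨hc.2, hc.1⟩
    obtain ⟨e⟩ := ker_equiv G hH ψ hψ hψk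
    obtain ⟨e'⟩ := prod_of_lift (chiO G hH) e t htf hcomm hto hG
    exact ⟨e'.trans
      { toFun := fun x => Multiplicative.ofAdd (x.1.toAdd.1, x.1.toAdd.2, x.2.toAdd)
        invFun := fun x => (Multiplicative.ofAdd (x.toAdd.1, x.toAdd.2.1), Multiplicative.ofAdd x.toAdd.2.2)
        left_inv := fun _ => rfl
        right_inv := fun _ => rfl
        map_mul' := fun _ _ => rfl }⟩
  · obtain ⟨ψ, hψ, hψk⟩ := S.pgo_mod_inn_two (hnegiff.2 fun h => hc ⟨h.2, h.1⟩)
    obtain ⟨e⟩ := ker_equiv G hH ψ hψ hψk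
    exact prod_of_lift (chiO G hH) e t htf hcomm hto hG

theorem out_plus_two (h2 : (2 : F) = 0) (hF : Fintype.card F = p ^ f) (φ : (ιP → F) → F) (hφ : φ = ⇑QP) :
    Nonempty (Cfsg.Out (Cfsg.POmega F φ) ≃* Multiplicative (ZMod 2 × ZMod f)) := by
  subst hφ
  have G := OrthField.good_plus (F := F) (m := m) (by omega)
  have hH := OrthField.narrow_plus (F := F) (m := m) hm
  have hb := G.big
  haveI : CharP F 2 := CharTwo.of_one_ne_zero_of_two_eq_zero one_ne_zero h2
  have hidx := index_omega_two QP G.nd (by omega) (Or.inr (by omega))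
  obtain ⟨v, hv, -⟩ := exists_rational_refl (F := F) hm
  set R := refl QP v hv
  set r : Cfsg.Out (Cfsg.POmega F (⇑QP)) := outC (toGO QP R)
  have hR : R ∉ Cfsg.Omega F (⇑QP) := fun h => by
    have h1 := hom_eq_one_of_omega QP (dickson QP G.nd) h
    rw [dickson_refl] at h1
    exact absurd h1 (by decide)
  have hc1 : ∀ c : F, c * c = 1 → c = 1 := fun c hc => by
    have : (c - 1) * (c - 1) = 0 := by linear_combination hc + (1 - c) * h2
    exact sub_eq_zero.1 (mul_self_eq_zero.1 this)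
  have hr1 : r ≠ 1 := by
    intro h
    obtain ⟨c, s, hs, e⟩ := (outC_eq_one_iff G).1 h
    have hmu := congrArg (mu QP) e
    rw [OrthSim.mu_mul QP G.nd G.big, OrthSim.mu_scal QP G.nd G.big, OrthSim.mu_toGO QP G.nd G.big,
      OrthSim.mu_toGO QP G.nd G.big, mul_one] at hmu
    have hc : c = 1 := Units.ext (hc1 _ (by rw [← Units.val_mul, ← hmu, Units.val_one]))
    rw [hc, map_one, one_mul] at e
    exact hR (OrthSim.toGO_injective QP e ▸ hs)
  have hker : ∀ o, chiO G hH o = 1 ↔ o = 1 ∨ o = r := by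
    refine fun o => ⟨fun h => ?_, fun h => by rcases h with rfl | rfl; exacts [map_one _, chi_conjPO G hH _]⟩
    obtain ⟨x, rfl⟩ := (mem_ker_chiO G hH o).1 h
    obtain ⟨t, ht⟩ := exists_sqrt_two h2 (mu QP x : F)
    have ht0 : t ≠ 0 := fun e => (mu QP x).ne_zero (by rw [← ht, e, mul_zero])
    obtain ⟨s, hs⟩ := OrthSim.exists_iso_of_mu QP G.nd G.big (g := scal QP (Units.mk0 t ht0)⁻¹ * x) (by
      rw [OrthSim.mu_mul QP G.nd G.big, OrthSim.mu_scal QP G.nd G.big, ← mul_inv,
        show Units.mk0 t ht0 * Units.mk0 t ht0 = mu QP x from Units.ext ht, inv_mul_cancel])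
    have e : outC x = outC (toGO QP s) := by
      rw [← hs, map_mul, (outC_eq_one_iff G (x := scal QP (Units.mk0 t ht0)⁻¹)).2
        ⟨(Units.mk0 t ht0)⁻¹, 1, one_mem _, by rw [map_one, mul_one]⟩, one_mul]
    rw [e]
    by_cases hsO : s ∈ Cfsg.Omega F (⇑QP)
    · exact Or.inl ((outC_eq_one_iff G).2 ⟨1, s, hsO, by rw [map_one, one_mul]⟩)
    · refine Or.inr ?_
      rw [← mul_inv_eq_one]
      show outC (toGO QP s) * (outC (toGO QP R))⁻¹ = 1
      rw [← map_inv, ← map_mul, ← map_inv (toGO QP), ← map_mul (toGO QP)]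
      refine (outC_eq_one_iff G).2 ⟨1, _, ?_, by rw [map_one, one_mul]⟩
      rw [Subgroup.mul_mem_iff_of_index_two hidx, inv_mem_iff]
      exact ⟨fun h => absurd h hsO, fun h => absurd h hR⟩
  have hr2 : r * r = 1 := map_sq_one outC (map_sq_one (toGO QP) (refl_mul_self _ _ _))
  obtain ⟨e⟩ := split_two (chiO G hH)
    ((QuotientGroup.mk' (Cfsg.Inn (Cfsg.POmega F (⇑QP)))).comp (fieldAut (Q := QP) fun σ => OrthField.fixes_plus σ))
    (fun σ => chi_semi G hH _) hr2 hr1 hker
  obtain ⟨e'⟩ := galois_equiv hF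
  exact prod_equiv e e'

end Cfsg.Lib.OrthOut
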