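import Cfsg.Agent.Classical.AutOrders.D4Any
import Cfsg.Agent.Classical.AutOrders.TorusD4
import Cfsg.Agent.Known.ChevAut.D4
import Cfsg.Agent.Known.ChevAut.Tables
import Cfsg.Agent.Known.OrthOut.Odd

/-!
The outer automorphism group of `D₄(q) ≅ PΩ⁺₈(q)`: diagonal, graph and field parts.
-/

set_option autoImplicit false
set_option linter.unusedSectionVars false
set_option linter.style.haveILetI false

namespace Cfsg.Lib.OrthOut.Eight

open Cfsg.Lie Cfsg.Lib.Chev Cfsg.Lib.Known.ChevAut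

/-- Isomorphic groups have isomorphic outer automorphism groups. -/
noncomputable def outEquiv {G H : Type*} [Group G] [Group H] (e : G ≃* H) : Cfsg.Out G ≃* Cfsg.Out H :=
  QuotientGroup.congr _ _ (MulAut.congr e) (by
    apply le_antisymm
    · rintro _ ⟨_, ⟨g, rfl⟩, rfl⟩
      exact ⟨e g, MulEquiv.ext fun x => by simp [MulAut.congr]⟩
    · rintro _ ⟨h, rfl⟩
      exact ⟨_, ⟨e.symm h, rfl⟩, MulEquiv.ext fun x => by simp [MulAut.congr]⟩)

/-- The three end nodes and the centre. -/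
def nodes : Fin 3 ⊕ Fin 1 ≃ Fin chevD4.rank where
  toFun := Sum.elim ![⟨0, by decide⟩, ⟨2, by decide⟩, ⟨3, by decide⟩] fun _ => ⟨1, by decide⟩
  invFun i := [Sum.inl 0, Sum.inr 0, Sum.inl 1, Sum.inl 2].getD i.val (Sum.inr 0)
  left_inv := by decide +kernel
  right_inv := by decide +kernel

/-- An end node. -/
def node (a : Fin 3) : Fin chevD4.rank := nodes (Sum.inl a)

/-- Permutations of the end nodes. -/
def iota : Equiv.Perm (Fin 3) →* Equiv.Perm (Fin chevD4.rank) :=
  MonoidHom.mk' (fun π => nodes.permCongr (Equiv.sumCongr π 1)) fun π ρ => by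
    ext x
    obtain ⟨y, rfl⟩ := nodes.surjective x
    rcases y with y | y <;> simp [Equiv.permCongr_apply]

theorem iota_node (π : Equiv.Perm (Fin 3)) (a : Fin 3) : iota π (node a) = node (π a) := by
  simp [iota, node, Equiv.permCongr_apply]

theorem iota_injective : Function.Injective iota := fun π ρ h => Equiv.ext fun a => by
  have := congrArg (fun σ : Equiv.Perm (Fin chevD4.rank) => σ (node a)) h
  simp only [iota_node] at this
  exact Sum.inl_injective (nodes.injective this)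

attribute [local irreducible] iota

variable {C : Cert} {L : List ℕ} {T : List (List ℤ)} {F : Type*} [Field F]

/-- Graph automorphisms with their permutations. -/
def graphGrp (hT : Tabs chevD4 C L T) :
    Subgroup (Equiv.Perm (Fin chevD4.rank) × MulAut ↥(chevD4.group F)) where
  carrier := {p | (Fixes p.2 (chevD4.posUnipotent F) ∧ Fixes p.2 (chevD4.negUnipotent F)) ∧
    ∀ i t, p.2 (gp hT.str i t) = gp hT.str (p.1 i) t ∧ p.2 (gm hT.str i t) = gm hT.str (p.1 i) t}
  one_mem' := ⟨⟨fun _ => Iff.rfl, fun _ => Iff.rfl⟩, fun _ _ => ⟨rfl, rfl⟩⟩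
  mul_mem' := by
    rintro ⟨π, θ⟩ ⟨ρ, η⟩ h h'
    refine ⟨⟨h.1.1.mul h'.1.1, h.1.2.mul h'.1.2⟩, fun i t => ⟨?_, ?_⟩⟩
    · show θ (η (gp hT.str i t)) = gp hT.str (π (ρ i)) t
      rw [(h'.2 i t).1]
      exact (h.2 (ρ i) t).1
    · show θ (η (gm hT.str i t)) = gm hT.str (π (ρ i)) t
      rw [(h'.2 i t).2]
      exact (h.2 (ρ i) t).2
  inv_mem' := by
    rintro ⟨π, θ⟩ h
    refine ⟨⟨h.1.1.symm, h.1.2.symm⟩, fun i t => ⟨?_, ?_⟩⟩
    · apply θ.injective
      show θ (θ⁻¹ (gp hT.str i t)) = θ (gp hT.str (π⁻¹ i) t)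
      rw [MulAut.apply_inv_self, (h.2 (π⁻¹ i) t).1]
      simp
    · apply θ.injective
      show θ (θ⁻¹ (gm hT.str i t)) = θ (gm hT.str (π⁻¹ i) t)
      rw [MulAut.apply_inv_self, (h.2 (π⁻¹ i) t).2]
      simp

theorem mem_of_table [Finite F] (hT : Tabs chevD4 C L T) (S : Struct chevD4 D4.cert) {G : GTab} {pi : List ℕ}
    (hG : G.okAut D4.cert = true) (hpi : GTab.okSimple G D4.cert pi = true)
    (hpos : ∀ r : Fin chevD4.nroots, (chevD4.nroots / 2 ≤ G.rho chevD4.rank r ↔ chevD4.nroots / 2 ≤ r.val))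
    (π : Equiv.Perm (Fin chevD4.rank)) (hπ : ∀ i : Fin chevD4.rank, (π i).val = pi.getD i.val 0) :
    ∃ θ, (π, θ) ∈ graphGrp (F := F) hT := by
  obtain ⟨α, hα⟩ := GTab.exists_aut (F := F) S.ok hG
  obtain ⟨hU, hV⟩ := fixes_UV S (η := α) fun r hr t =>
    ⟨G.rho chevD4.rank r, _, GTab.rho_lt S.ok hG hr, hpos ⟨r, hr⟩,
      S.ok.eq_xG (hα _ r t hr (S.ok.val_xG _ _))⟩
  refine ⟨α, ⟨hU, hV⟩, fun i t => ?_⟩
  have h0 := kall_krange hpi i.val (S.ok.l_eq.symm ▸ i.isLt)
  simp only [Bool.and_eq_true, decide_eq_true_eq] at h0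
  obtain ⟨⟨⟨⟨a, b⟩, c⟩, d⟩, -⟩ := h0
  have hs := S.ok.sr_lt i.isLt
  have hs' := S.ok.sr_lt (π i).isLt
  have a' := Nat.eq_of_beq_eq_true a
  have c' := Nat.eq_of_beq_eq_true c
  rw [S.ok.l_eq, S.ok.sr_eq i.isLt, ← hπ i, S.ok.sr_eq (π i).isLt] at a'
  rw [S.ok.l_eq, ← hπ i, S.ok.neg_eq hs, S.ok.neg_eq hs', S.ok.sr_eq i.isLt, S.ok.sr_eq (π i).isLt] at c'
  rw [S.ok.l_eq, S.ok.sr_eq i.isLt] at b
  rw [S.ok.l_eq, S.ok.neg_eq hs, S.ok.sr_eq i.isLt] at d
  refine ⟨Subtype.ext (Units.ext ?_), Subtype.ext (Units.ext ?_)⟩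
  · rw [hα (gp hT.str i t) (chevD4.simple i) t (simple_lt S i) (hT.str.ok.val_xG _ _), a', b, Int.cast_one, one_mul]
    exact (hT.str.ok.val_xG _ _).symm
  · rw [hα (gm hT.str i t) (chevD4.neg (chevD4.simple i)) t (negSimple_lt S i) (hT.str.ok.val_xG _ _), c', d,
      Int.cast_one, one_mul]
    exact (hT.str.ok.val_xG _ _).symm

theorem exists_graph [Finite F] (hT : Tabs chevD4 C L T) (π : Equiv.Perm (Fin 3)) :
    ∃ θ, (iota π, θ) ∈ graphGrp (F := F) hT := by
  have S : Struct chevD4 D4.cert := ⟨D4.ok, D4.okChain_, D4.okBase_all, okOrder_D4⟩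
  set H := ((graphGrp (F := F) hT).map (MonoidHom.fst _ _)).comap iota with hH
  suffices h : π ∈ H by
    obtain ⟨⟨_, θ⟩, hp, rfl⟩ := h
    exact ⟨θ, hp⟩
  have hs : Equiv.swap (1 : Fin 3) 2 ∈ H := by
    obtain ⟨θ, hθ⟩ := mem_of_table (F := F) hT S d4Swap_ok d4Swap_simple d4_pos.1 d4PermS d4_perm_vals.1
    exact ⟨_, hθ, show d4PermS = iota (Equiv.swap (1 : Fin 3) 2) by decide +kernel⟩
  have ha : finRotate 3 ∈ H := by
    obtain ⟨θ, hθ⟩ := mem_of_table (F := F) hT S D4.graphA_ok D4.graphA_simple d4_pos.2 d4PermA d4_perm_vals.2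
    exact ⟨_, hθ, show d4PermA = iota (finRotate 3) by decide +kernel⟩
  have hall : ∀ π : Equiv.Perm (Fin 3), π = 1 ∨ π = Equiv.swap 1 2 ∨ π = finRotate 3 ∨
      π = finRotate 3 * finRotate 3 ∨ π = Equiv.swap 1 2 * finRotate 3 ∨ π = finRotate 3 * Equiv.swap 1 2 := by
    decide +kernel
  rcases hall π with rfl | rfl | rfl | rfl | rfl | rfl
  exacts [one_mem _, hs, ha, mul_mem ha ha, mul_mem hs ha, mul_mem ha hs]

theorem graph_unique (hT : Tabs chevD4 C L T) {π : Equiv.Perm (Fin chevD4.rank)}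
    {θ η : MulAut ↥(chevD4.group F)} (h : (π, θ) ∈ graphGrp hT) (h' : (π, η) ∈ graphGrp hT) : θ = η :=
  mulAut_ext hT.str (fun i t => (h.2 i t).1.trans (h'.2 i t).1.symm)
    (fun i t => (h.2 i t).2.trans (h'.2 i t).2.symm)

variable [Fintype F] (hT : Tabs chevD4 C L T)

/-- The graph automorphisms, as a homomorphism. -/
noncomputable def gr : Equiv.Perm (Fin 3) →* MulAut ↥(chevD4.group F) :=
  MonoidHom.mk' (fun π => Classical.choose (exists_graph (F := F) hT π)) fun π ρ => by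
    have h := mul_mem (Classical.choose_spec (exists_graph (F := F) hT π))
      (Classical.choose_spec (exists_graph (F := F) hT ρ))
    rw [Prod.mk_mul_mk, ← map_mul iota] at h
    exact graph_unique hT (Classical.choose_spec (exists_graph (F := F) hT (π * ρ))) h

theorem gr_mem (π : Equiv.Perm (Fin 3)) : (iota π, gr (F := F) hT π) ∈ graphGrp hT :=
  Classical.choose_spec (exists_graph hT π)

theorem gr_field (π : Equiv.Perm (Fin 3)) (σ : F ≃+* F) :
    Commute (gr hT π) (fieldHom hT.str F σ) := by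
  have S := hT.str
  refine mulAut_ext S (fun i t => ?_) fun i t => ?_
  · rw [MulAut.mul_apply, MulAut.mul_apply, ((gr_mem hT π).2 i t).1]
    exact ((congrArg (gr hT π) (fieldHom_root S σ (simple_lt S i) t)).trans ((gr_mem hT π).2 i (σ t)).1).trans
      (fieldHom_root S σ (simple_lt S _) t).symm
  · rw [MulAut.mul_apply, MulAut.mul_apply, ((gr_mem hT π).2 i t).2]
    exact ((congrArg (gr hT π) (fieldHom_root S σ (negSimple_lt S i) t)).trans ((gr_mem hT π).2 i (σ t)).2).trans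
      (fieldHom_root S σ (negSimple_lt S _) t).symm

set_option quotPrecheck false
local notation "q'" => QuotientGroup.mk' (Cfsg.Inn ↥(chevD4.group F))

/-- Graph and field parts. -/
noncomputable def psi : Equiv.Perm (Fin 3) × (F ≃+* F) →* Cfsg.Out ↥(chevD4.group F) :=
  (q').comp (MonoidHom.noncommCoprod (gr hT) (fieldHom hT.str F) (gr_field hT))

theorem psi_apply (π : Equiv.Perm (Fin 3)) (σ : F ≃+* F) :
    psi hT (π, σ) = q' (gr hT π * fieldHom hT.str F σ) := rfl

/-- The diagram permutation of an outer automorphism. -/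
noncomputable def delta : Cfsg.Out ↥(chevD4.group F) →* Equiv.Perm (Fin chevD4.rank) :=
  QuotientGroup.lift _ (diagHom hT) (by rintro _ ⟨a, rfl⟩; exact diagHom_eq hT (kind_conj hT.str a))

theorem delta_psi (π : Equiv.Perm (Fin 3)) (σ : F ≃+* F) : delta hT (psi hT (π, σ)) = iota π := by
  rw [psi_apply, delta, QuotientGroup.mk'_apply, QuotientGroup.lift_mk]
  rw [map_mul, diagHom_eq hT (Kind.of_shape (shape_field hT.str ((mem_fieldHom_range hT.str).1 ⟨σ, rfl⟩))), mul_one]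
  exact diagHom_eq hT (Kind.of_shape ⟨(gr_mem hT π).1.1, (gr_mem hT π).1.2,
    fun i t => ⟨t, ((gr_mem hT π).2 i t).1⟩⟩)

theorem delta_diag (c : Fin chevD4.rank → Fˣ) : delta hT (diagCls hT F c) = 1 :=
  diagHom_eq hT (Kind.of_shape (shape_diag hT.str hT.chr (diagOf_isDiag hT c)))

theorem psi_eq_diag {π : Equiv.Perm (Fin 3)} {σ : F ≃+* F} {c : Fin chevD4.rank → Fˣ}
    (h : psi hT (π, σ) = diagCls hT F c) : π = 1 ∧ σ = 1 := by
  have h1 := congrArg (delta hT) h
  rw [delta_psi, delta_diag, ← map_one iota] at h1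
  obtain rfl := iota_injective h1
  rw [psi_apply, map_one, one_mul] at h
  exact ⟨rfl, field_diag_trivial hT (by decide) h.symm⟩

theorem psi_injective : Function.Injective (psi (F := F) hT) := by
  refine (injective_iff_map_eq_one _).2 fun ⟨π, σ⟩ h => ?_
  obtain ⟨h1, h2⟩ := psi_eq_diag hT (c := 1) (h.trans (map_one _).symm)
  exact Prod.ext h1 h2

theorem gr_diag (π : Equiv.Perm (Fin 3)) (c : Fin chevD4.rank → Fˣ) :
    psi hT (π, 1) * diagCls hT F c = diagCls hT F (c ∘ (iota π).symm) * psi hT (π, 1) := by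
  have S := hT.str
  rw [psi_apply, map_one, mul_one]
  show q' (gr hT π) * q' (diagOf hT c) = q' (diagOf hT (c ∘ (iota π).symm)) * q' (gr hT π)
  rw [← map_mul, ← map_mul]
  congr 1
  refine mulAut_ext S (fun i t => ?_) fun i t => ?_
  · rw [MulAut.mul_apply, MulAut.mul_apply, diagOf_gp, ((gr_mem hT π).2 i _).1, ((gr_mem hT π).2 i t).1,
      diagOf_gp, Function.comp_apply, Equiv.symm_apply_apply]
  · rw [MulAut.mul_apply, MulAut.mul_apply, diagOf_gm, ((gr_mem hT π).2 i _).2, ((gr_mem hT π).2 i t).2,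
      diagOf_gm, Function.comp_apply, Equiv.symm_apply_apply]

theorem field_diag (σ : F ≃+* F) (c : Fin chevD4.rank → Fˣ) :
    psi hT (1, σ) * diagCls hT F c = diagCls hT F (fun i => Units.map σ.toMonoidHom (c i)) * psi hT (1, σ) := by
  have S := hT.str
  rw [psi_apply, map_one, one_mul]
  show q' (fieldHom hT.str F σ) * q' (diagOf hT c) = q' (diagOf hT _) * q' (fieldHom hT.str F σ)
  rw [← map_mul, ← map_mul]
  congr 1
  refine mulAut_ext S (fun i t => ?_) fun i t => ?_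
  · rw [MulAut.mul_apply, MulAut.mul_apply, diagOf_gp, gp, gp, fieldHom_root S σ (simple_lt S i),
      fieldHom_root S σ (simple_lt S i)]
    refine Eq.trans ?_ (diagOf_gp hT _ i _).symm
    exact congrArg (gp hT.str i) (map_mul σ _ _)
  · rw [MulAut.mul_apply, MulAut.mul_apply, diagOf_gm, gm, gm, fieldHom_root S σ (negSimple_lt S i),
      fieldHom_root S σ (negSimple_lt S i)]
    refine Eq.trans ?_ (diagOf_gm hT _ i _).symm
    refine congrArg (gm hT.str i) ?_
    rw [map_mul]; simp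

/-- The values of the torus on the end nodes. -/
theorem torusVal_node (c : Fin chevD4.rank → Fˣ) (a : Fin 3) :
    torusVal chevD4 F c (node a) = c (node a) * c (node a) * (c (nodes (Sum.inr 0)))⁻¹ := by
  let A : Fin 4 → Fin 4 → ℤ := fun i j =>
    ([[2, -1, 0, 0], [-1, 2, -1, -1], [0, -1, 2, 0], [0, -1, 0, 2]].getD i.val []).getD j.val 0
  have hA : ∀ i j : Fin 4, chevD4.cartan i.val (chevD4.simple j.val) = A i j := by decide +kernel
  have key : ∀ (d : Fin 4 → Fˣ) (j : Fin 4), ∏ i : Fin 4, d i ^ chevD4.cartan i.val (chevD4.simple j.val) =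
      d 0 ^ A 0 j * d 1 ^ A 1 j * d 2 ^ A 2 j * d 3 ^ A 3 j := fun d j => by
    rw [Fin.prod_univ_four]; simp only [← hA]
  rw [torusVal_apply]
  fin_cases a
  · refine (key c 0).trans ?_
    simp [A, node, nodes, pow_two]
    rfl
  · refine (key c 2).trans ?_
    simp [A, node, nodes, pow_two, mul_comm]
    rfl
  · refine (key c 3).trans ?_
    simp [A, node, nodes, pow_two, mul_comm]
    rfl

theorem isSquare_pair {v : Fin chevD4.rank → Fˣ} (hv : v ∈ (torusVal chevD4 F).range) (a b : Fin 3) :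
    IsSquare (v (node a) * v (node b)) := by
  obtain ⟨c, rfl⟩ := hv
  refine ⟨c (node a) * c (node b) * (c (nodes (Sum.inr 0)))⁻¹, ?_⟩
  rw [torusVal_node, torusVal_node]
  ac_rfl

theorem sq_mem_range (w : Fin chevD4.rank → Fˣ) : w * w ∈ (torusVal chevD4 F).range := by
  let A : Fin 4 → Fin 4 → ℤ := fun i j =>
    ([[2, -1, 0, 0], [-1, 2, -1, -1], [0, -1, 2, 0], [0, -1, 0, 2]].getD i.val []).getD j.val 0
  have hA : ∀ i j : Fin 4, chevD4.cartan i.val (chevD4.simple j.val) = A i j := by decide +kernel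
  have key : ∀ (d : Fin 4 → Fˣ) (j : Fin 4), ∏ i : Fin 4, d i ^ chevD4.cartan i.val (chevD4.simple j.val) =
      d 0 ^ A 0 j * d 1 ^ A 1 j * d 2 ^ A 2 j * d 3 ^ A 3 j := fun d j => by
    rw [Fin.prod_univ_four]; simp only [← hA]
  let u : Fin 4 → Fˣ := w
  let d : Fin 4 → Fˣ := ![u 0 * u 0 * u 1 * u 1 * u 2 * u 3,
    u 0 * u 0 * u 1 * u 1 * u 1 * u 1 * u 2 * u 2 * u 3 * u 3,
    u 0 * u 1 * u 1 * u 2 * u 2 * u 3, u 0 * u 1 * u 1 * u 2 * u 3 * u 3]
  refine ⟨d, funext fun (j : Fin 4) => (key d j).trans ?_⟩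
  show _ = u j * u j
  fin_cases j <;>
  · simp [A, d, zpow_two]
    apply Units.ext
    simp
    field_simp

/-- Diagonal classes are fixed by the field automorphisms. -/
theorem field_diag_comm (hodd : Odd (Fintype.card F)) (σ : F ≃+* F) (c : Fin chevD4.rank → Fˣ) :
    Commute (psi hT (1, σ)) (diagCls hT F c) := by
  have h2 : ringChar F ≠ 2 := fun h => by
    haveI := FiniteField.even_card_of_char_two h
    rw [Nat.odd_iff] at hodd
    omega
  have hsq : ∀ x : Fˣ, IsSquare (Units.map σ.toMonoidHom x * x⁻¹) := fun x => by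
    have h1 : IsSquare (Units.map σ.toMonoidHom x) ↔ IsSquare x := by
      refine ⟨fun ⟨r, hr⟩ => ⟨Units.map σ.symm.toMonoidHom r, Units.ext (σ.injective ?_)⟩, fun h => h.map _⟩
      simpa using congrArg Units.val hr
    rw [FiniteField.unit_isSquare_iff h2, mul_pow, inv_pow]
    have pm : ∀ y : Fˣ, y ^ (Fintype.card F / 2) = 1 ∨ y ^ (Fintype.card F / 2) = -1 := fun y =>
      (FiniteField.pow_dichotomy h2 y.ne_zero).imp (fun h => Units.ext (by simpa using h))
        (fun h => Units.ext (by simpa using h))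
    rw [FiniteField.unit_isSquare_iff h2, FiniteField.unit_isSquare_iff h2] at h1
    rcases pm x with h | h
    · rw [h1.2 h, h, inv_one, one_mul]
    · rcases pm (Units.map σ.toMonoidHom x) with h' | h'
      · rw [h', h1.1 h', inv_one, one_mul]
      · rw [h', h, mul_inv_cancel]
  choose w hw using fun i => hsq (c i)
  have e : diagCls hT F (fun i => Units.map σ.toMonoidHom (c i)) = diagCls hT F c := by
    rw [← mul_inv_eq_one, ← map_inv, ← map_mul, ← MonoidHom.mem_ker, diagCls_ker]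
    rw [show (fun i => Units.map σ.toMonoidHom (c i)) * c⁻¹ = w * w from funext hw]
    exact sq_mem_range w
  show _ = _
  rw [field_diag, e]

theorem faithful (hodd : Odd (Fintype.card F)) {π : Equiv.Perm (Fin 3)}
    (h : ∀ c, Commute (psi hT (π, 1)) (diagCls hT F c)) : π = 1 := by
  have h2 : ringChar F ≠ 2 := fun h => by
    haveI := FiniteField.even_card_of_char_two h
    rw [Nat.odd_iff] at hodd
    omega
  obtain ⟨u, hu⟩ := FiniteField.exists_nonsquare h2
  have hu0 : u ≠ 0 := fun h => hu (h ▸ IsSquare.zero)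
  by_contra hπ
  obtain ⟨a, ha⟩ : ∃ a, π a ≠ a := by
    by_contra hh
    push Not at hh
    exact hπ (Equiv.ext hh)
  obtain ⟨b, hb1, hb2⟩ : ∃ b : Fin 3, b ≠ a ∧ b ≠ π a := by
    revert ha
    generalize π a = a'
    revert a a'
    decide
  set c : Fin chevD4.rank → Fˣ := Pi.mulSingle (node a) (Units.mk0 u hu0)
  have hc := (h c).eq
  rw [gr_diag] at hc
  have hk : c ∘ (iota π).symm * c⁻¹ ∈ (torusVal chevD4 F).range := by
    rw [← diagCls_ker hT, MonoidHom.mem_ker, map_mul, map_inv, mul_inv_eq_one]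
    exact mul_right_cancel hc
  have hs := isSquare_pair hk a b
  have hne : ∀ x y : Fin 3, x ≠ y → node x ≠ node y := fun x y hxy e => hxy (Sum.inl_injective (nodes.injective e))
  have e1 : (iota π).symm (node a) ≠ node a := fun e => by
    rw [Equiv.symm_apply_eq, iota_node] at e
    exact hne _ _ (Ne.symm ha) e
  have e2 : (iota π).symm (node b) ≠ node a := fun e => by
    rw [Equiv.symm_apply_eq, iota_node] at e
    exact hne _ _ hb2 e
  simp [c, e1, e2, hne _ _ hb1] at hs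
  obtain ⟨r, hr⟩ := hs
  refine hu ⟨(r : F), ?_⟩
  simpa using congrArg Units.val hr

omit [Fintype F] in
theorem card_end_perm : Nat.card (Equiv.Perm (Fin 3)) = 6 := by simp [Fintype.card_perm]; rfl

variable {p f : ℕ} [Fact p.Prime] [CharP F p] (hF : Fintype.card F = p ^ f)

include hF

theorem card_out_D4 (hT : Tabs chevD4 C L T) :
    Nat.card (Cfsg.Out ↥(chevD4.group F)) = 6 * Nat.gcd 2 (Fintype.card F - 1) ^ 2 * f := by
  rw [card_out p f hF hT (by decide), (card_range_D4 (F := F) hT).1,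
    Cfsg.Lib.Classical.AutOrders.index_torusVal_D4]

theorem out_even (hT : Tabs chevD4 C L T) (hf : 1 ≤ f) (he : Nat.gcd 2 (Fintype.card F - 1) = 1) :
    Nonempty (Cfsg.Out ↥(chevD4.group F) ≃* Equiv.Perm (Fin 3) × Multiplicative (ZMod f)) := by
  have hcard := card_out_D4 hF hT
  rw [he, one_pow, mul_one] at hcard
  haveI : Finite (Cfsg.Out ↥(chevD4.group F)) := Nat.finite_of_card_ne_zero (by rw [hcard]; omega)
  obtain ⟨e'⟩ := galois_equiv (F := F) hF
  refine ⟨(MulEquiv.ofBijective (psi hT) ((Nat.bijective_iff_injective_and_card _).2 ⟨psi_injective hT, ?_⟩)).symm.trans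
    ((MulEquiv.refl _).prodCongr e')⟩
  rw [Nat.card_prod, card_end_perm, (Known.FieldLight.ringAut_facts (F := F) p f hF).2, hcard]

set_option maxHeartbeats 1000000 in
theorem out_odd (hT : Tabs chevD4 C L T) (hf : 1 ≤ f) (hodd : Odd (Fintype.card F)) :
    Nonempty (Cfsg.Out ↥(chevD4.group F) ≃* Equiv.Perm (Fin 4) × Multiplicative (ZMod f)) := by
  classical
  have hG : Nat.card (F ≃+* F) = f := (Known.FieldLight.ringAut_facts (F := F) p f hF).2
  have he : Nat.gcd 2 (Fintype.card F - 1) = 2 := Nat.gcd_eq_left (by obtain ⟨k, hk⟩ := hodd; omega)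
  have hcard : Nat.card (Cfsg.Out ↥(chevD4.group F)) = 24 * f := by rw [card_out_D4 hF hT, he]; ring
  haveI : Finite (Cfsg.Out ↥(chevD4.group F)) := Nat.finite_of_card_ne_zero (by rw [hcard]; omega)
  set Δ := (diagCls hT F).range with hΔ
  haveI : Δ.Normal := by rw [hΔ, diagCls_range]; exact diag_normal hT
  have hΔc : Nat.card Δ = 4 := by
    rw [hΔ, ← Subgroup.index_ker, diagCls_ker, Cfsg.Lib.Classical.AutOrders.index_torusVal_D4, he]
    rfl
  let ψ := psi (F := F) hT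
  let ψ₁ : Equiv.Perm (Fin 3) →* Cfsg.Out ↥(chevD4.group F) := ψ.comp (MonoidHom.inl _ _)
  let ψ₂ : (F ≃+* F) →* Cfsg.Out ↥(chevD4.group F) := ψ.comp (MonoidHom.inr _ _)
  set H := ψ.range with hH
  have hidx : Nat.card (Cfsg.Out ↥(chevD4.group F) ⧸ H) = 4 := by
    have h := H.card_mul_index
    rw [hH, ← Nat.card_congr (MonoidHom.ofInjective (psi_injective hT)).toEquiv, Nat.card_prod, card_end_perm, hG,
      hcard] at h
    refine Nat.eq_of_mul_eq_mul_left (show 0 < 6 * f by omega) (h.trans ?_)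
    ring
  have hmeet : ∀ d ∈ Δ, d ∈ H → d = 1 := by
    rintro _ ⟨c, rfl⟩ ⟨⟨π, σ⟩, e⟩
    obtain ⟨rfl, rfl⟩ := psi_eq_diag hT e
    exact e.symm.trans (map_one ψ)
  set P := Δ ⊔ ψ₁.range
  have hdis : Δ ⊓ ψ₁.range = ⊥ := by
    rw [eq_bot_iff]
    rintro x ⟨hd, π, rfl⟩
    exact Subgroup.mem_bot.2 (hmeet _ hd ⟨_, rfl⟩)
  have hPc : Nat.card P = 24 := by
    have hinj : Function.Injective ψ₁ := fun a b h => congrArg Prod.fst (psi_injective hT h)
    rw [card_sup_of_disjoint _ _ hdis, hΔc, ← Nat.card_congr (MonoidHom.ofInjective hinj).toEquiv, card_end_perm]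
  let χ : ↥P →* Equiv.Perm (Cfsg.Out ↥(chevD4.group F) ⧸ H) := (MulAction.toPermHom _ _).comp P.subtype
  have hmemP : ∀ x ∈ P, ∃ d ∈ Δ, ∃ π, x = d * ψ₁ π := by
    intro x hx
    have hx' : x ∈ ((Δ ⊔ ψ₁.range : Subgroup _) : Set (Cfsg.Out ↥(chevD4.group F))) := hx
    rw [Subgroup.normal_mul] at hx'
    obtain ⟨d, hd, _, ⟨π, rfl⟩, e⟩ := Set.mem_mul.1 hx'
    exact ⟨d, hd, π, e.symm⟩
  have hχ : Function.Injective χ := by
    refine (injective_iff_map_eq_one _).2 fun ⟨x, hx⟩ h => ?_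
    have hfix : ∀ y : Cfsg.Out ↥(chevD4.group F), y⁻¹ * x * y ∈ H := fun y => by
      have h1 := congrArg (fun π : Equiv.Perm _ => π (QuotientGroup.mk y : _ ⧸ H)) h
      change (QuotientGroup.mk (x * y) : _ ⧸ H) = QuotientGroup.mk y at h1
      rw [eq_comm, QuotientGroup.eq] at h1
      rwa [mul_assoc]
    obtain ⟨d, hd, π, rfl⟩ := hmemP x hx
    have hd1 : d = 1 := hmeet d hd (by
      have h1 := mul_mem (hfix 1) (inv_mem (show ψ₁ π ∈ H from ⟨_, rfl⟩))
      simpa using h1)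
    have hπ : π = 1 := faithful hT hodd fun c => by
      have h1 := hfix (diagCls hT F c)
      rw [hd1, one_mul] at h1
      have h2 := mul_mem h1 (inv_mem (show ψ₁ π ∈ H from ⟨_, rfl⟩))
      have h3 : (diagCls hT F c)⁻¹ * (ψ₁ π * diagCls hT F c * (ψ₁ π)⁻¹) ∈ Δ :=
        mul_mem (inv_mem (show diagCls hT F c ∈ Δ from ⟨c, rfl⟩))
          (Subgroup.Normal.conj_mem inferInstance _ (show diagCls hT F c ∈ Δ from ⟨c, rfl⟩) _)
      have h4 := hmeet _ h3 (by simpa only [mul_assoc] using h2)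
      exact (mul_inv_eq_iff_eq_mul.1 (inv_mul_eq_one.1 h4).symm)
    refine Subtype.ext ?_
    show d * ψ₁ π = 1
    rw [hd1, hπ, map_one, one_mul]
  haveI : Finite (Cfsg.Out ↥(chevD4.group F) ⧸ H) := Nat.finite_of_card_ne_zero (by omega)
  have hbij : Function.Bijective χ := (Nat.bijective_iff_injective_and_card _).2
    ⟨hχ, by rw [hPc, Nat.card_perm, hidx]; rfl⟩
  let e4 : Equiv.Perm (Fin 4) ≃* ↥P :=
    ((Finite.equivFinOfCardEq hidx).symm.permCongrHom).trans (MulEquiv.ofBijective χ hbij).symm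
  have hcent : ∀ (x : ↥P) σ, Commute ((P.subtype) x) (ψ₂ σ) := by
    intro x σ
    obtain ⟨d, ⟨c, hd⟩, π, e⟩ := hmemP x.1 x.2
    show Commute x.1 _
    rw [e, ← hd]
    refine Commute.mul_left (field_diag_comm hT hodd σ c).symm ?_
    exact (Commute.map (show Commute ((π, 1) : _ × (F ≃+* F)) (1, σ) from
      Prod.ext (by simp) (by simp)) ψ)
  let Φ := MonoidHom.noncommCoprod (P.subtype.comp e4.toMonoidHom) ψ₂ fun x σ => hcent _ _
  have hΦ : Function.Injective Φ := by
    refine (injective_iff_map_eq_one Φ).2 fun y hy => ?_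
    obtain ⟨x, σ⟩ := y
    have h : (e4 x).1 * ψ₂ σ = 1 := hy
    obtain ⟨d, ⟨c, hd⟩, π, e⟩ := hmemP (e4 x).1 (e4 x).2
    rw [e] at h
    have h1 : psi hT (π, σ) = diagCls hT F c⁻¹ := by
      rw [map_inv, hd, eq_inv_iff_mul_eq_one, mul_eq_one_comm, ← h, mul_assoc]
      congr 1
      show ψ (π, σ) = ψ (π, 1) * ψ (1, σ)
      rw [← map_mul]; simp
    obtain ⟨-, rfl⟩ := psi_eq_diag hT h1
    rw [map_one, mul_one, ← e] at h
    refine Prod.ext (e4.injective (Subtype.ext ?_)) rfl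
    rw [h, Prod.fst_one, map_one]; rfl
  obtain ⟨e'⟩ := galois_equiv (F := F) hF
  refine ⟨(MulEquiv.ofBijective Φ ((Nat.bijective_iff_injective_and_card _).2 ⟨hΦ, ?_⟩)).symm.trans
    ((MulEquiv.refl _).prodCongr e')⟩
  rw [Nat.card_prod, Nat.card_perm, Nat.card_fin, hG, hcard]
  rfl

end Cfsg.Lib.OrthOut.Eight
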