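import Cfsg.Agent.Known.OrthOut.Twisted
import Cfsg.Agent.Known.OrthSim.Minus

/-!
The outer automorphism group of `PΩ⁻`.
-/

set_option autoImplicit false
set_option linter.unusedSectionVars false
set_option linter.style.haveILetI false

namespace Cfsg.Lib.OrthOut

open Matrix Cfsg.Lib.Classical Cfsg.Lib.Classical.Refl Cfsg.Lib.OrthAut
open Cfsg.Lib.OrthSim (GO gm semiPO induced_semi_iff induced_iff glS conjPO toGO scal pair_comp semiPO_mul mu mu_spec
  Aniso NN Setup)

universe u

/-! ### Group theory -/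

/-- An extension with a central lift of a generator. -/
theorem prod_of_lift {O C D : Type*} [Group O] [Group C] [Group D] (χ : O →* C) (e : D ≃* χ.ker) {f : ℕ} [NeZero f]
    (t : O) (ht : t ^ f = 1) (hcomm : ∀ o, χ o = 1 → t * o = o * t) (hord : orderOf (χ t) = f)
    (hcard : Nat.card C = f) : Nonempty (O ≃* D × Multiplicative (ZMod f)) := by
  haveI : Finite C := Nat.finite_of_card_ne_zero (hcard ▸ NeZero.ne f)
  set T := OrthSim.cycLift t ht
  have hT : ∀ x, T x = t ^ x.toAdd.val := fun x => rfl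
  have hc : ∀ d x, Commute ((χ.ker.subtype.comp e.toMonoidHom) d) (T x) := fun d x => by
    rw [hT]
    exact (Commute.pow_left (hcomm _ (e d).2 : Commute t _) _).symm
  refine ⟨(MulEquiv.ofBijective (MonoidHom.noncommCoprod _ T hc) ⟨?_, ?_⟩).symm⟩
  · rw [injective_iff_map_eq_one]
    rintro ⟨d, x⟩ h
    change ((e d : χ.ker) : O) * T x = 1 at h
    have h1 := congrArg χ h
    rw [map_mul, (e d).2, one_mul, map_one, hT, map_pow] at h1
    have h2 := orderOf_dvd_of_pow_eq_one h1
    rw [hord] at h2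
    have h3 : x.toAdd.val = 0 := Nat.eq_zero_of_dvd_of_lt h2 (ZMod.val_lt _)
    have hx : x = 1 := Multiplicative.toAdd.injective ((ZMod.val_eq_zero _).1 h3)
    subst hx
    rw [map_one, mul_one] at h
    have hd : d = 1 := e.injective (Subtype.ext (by rw [h, map_one]; rfl))
    rw [hd]; rfl
  · intro o
    obtain ⟨n, hn⟩ : ∃ n : ℕ, χ t ^ n = χ o := by
      have hz : Subgroup.zpowers (χ t) = ⊤ := by
        refine Subgroup.eq_top_of_card_eq _ ?_
        rw [Nat.card_zpowers, hord, hcard]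
      have hm : χ o ∈ Submonoid.powers (χ t) := mem_powers_iff_mem_zpowers.2 (hz ▸ Subgroup.mem_top _)
      exact hm
    have hk : o * (t ^ n)⁻¹ ∈ χ.ker := by rw [MonoidHom.mem_ker, map_mul, map_inv, map_pow, hn, mul_inv_cancel]
    refine ⟨(e.symm ⟨_, hk⟩, Multiplicative.ofAdd (n : ZMod f)), ?_⟩
    show ((e (e.symm ⟨_, hk⟩) : χ.ker) : O) * T (Multiplicative.ofAdd (n : ZMod f)) = o
    rw [e.apply_symm_apply, hT, toAdd_ofAdd, ZMod.val_natCast, ← pow_eq_pow_mod n ht, inv_mul_cancel_right]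

/-- A lift of the generator whose power is outside the four-group kernel's first factor. -/
theorem prod_two {O C : Type*} [Group O] [Group C] (χ : O →* C) {f : ℕ} (hf : 1 ≤ f) {d φ : O}
    (hd : d * d = 1) (hφ : φ ^ (2 * f) = 1) (hdφ : Commute d φ) (hχd : χ d = 1) (hord : orderOf (χ φ) = f)
    (hcard : Nat.card C = f) (hd1 : d ≠ 1) (hr1 : φ ^ f ≠ 1) (hdr : d ≠ φ ^ f)
    (hker : ∀ o, χ o = 1 → o = 1 ∨ o = d ∨ o = φ ^ f ∨ o = d * φ ^ f) :
    Nonempty (O ≃* Multiplicative (ZMod 2 × ZMod (2 * f))) := by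
  haveI : NeZero (2 * f) := ⟨by omega⟩
  haveI : Finite C := Nat.finite_of_card_ne_zero (by omega)
  have hd2 : d ^ 2 = 1 := by rw [pow_two, hd]
  set A := OrthSim.cycLift d hd2
  set T := OrthSim.cycLift φ hφ
  have hc : ∀ x y, Commute (A x) (T y) := fun x y => hdφ.pow_pow x.toAdd.val y.toAdd.val
  set Φ := MonoidHom.noncommCoprod A T hc
  have hb : Function.Bijective Φ := by
    constructor
    · rw [injective_iff_map_eq_one]
      rintro ⟨x, y⟩ h
      change d ^ x.toAdd.val * φ ^ y.toAdd.val = 1 at h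
      have h1 := congrArg χ h
      rw [map_mul, map_pow, map_pow, hχd, one_pow, one_mul, map_one] at h1
      have hdvd := orderOf_dvd_of_pow_eq_one h1
      rw [hord] at hdvd
      obtain ⟨j, hj⟩ := hdvd
      have hy := ZMod.val_lt y.toAdd
      have hx := ZMod.val_lt x.toAdd
      have hj2 : j = 0 ∨ j = 1 := by
        rcases j with _ | _ | j
        · exact Or.inl rfl
        · exact Or.inr rfl
        · exfalso
          rw [hj] at hy
          nlinarith
      rw [hj] at h
      have hzero : x.toAdd.val = 0 ∧ y.toAdd.val = 0 := by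
        rcases hj2 with rfl | rfl <;>
          rcases (show x.toAdd.val = 0 ∨ x.toAdd.val = 1 by omega) with e | e <;>
          rw [e] at h <;> simp only [pow_zero, pow_one, mul_zero, mul_one, one_mul] at h
        · exact ⟨e, by rw [hj, mul_zero]⟩
        · exact absurd h hd1
        · exact absurd h hr1
        · exact absurd ((eq_inv_of_mul_eq_one_left h).trans (inv_eq_of_mul_eq_one_left (by
            rw [← pow_add, ← two_mul]; exact hφ))) hdr
      refine Prod.ext (Multiplicative.toAdd.injective ?_) (Multiplicative.toAdd.injective ?_)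
      · exact (ZMod.val_eq_zero _).1 hzero.1
      · exact (ZMod.val_eq_zero _).1 hzero.2
    · intro o
      obtain ⟨n, hn⟩ : ∃ n : ℕ, χ φ ^ n = χ o := by
        have hz : Subgroup.zpowers (χ φ) = ⊤ := by
          refine Subgroup.eq_top_of_card_eq _ ?_
          rw [Nat.card_zpowers, hord, hcard]
        have hm : χ o ∈ Submonoid.powers (χ φ) := mem_powers_iff_mem_zpowers.2 (hz ▸ Subgroup.mem_top _)
        exact hm
      have hk : χ (o * (φ ^ n)⁻¹) = 1 := by rw [map_mul, map_inv, map_pow, hn, mul_inv_cancel]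
      have key : ∀ (i : ℕ) (l : ℕ), i < 2 → d ^ i * φ ^ l ∈ Set.range Φ := fun i l hi => by
        refine ⟨(Multiplicative.ofAdd (i : ZMod 2), Multiplicative.ofAdd (l : ZMod (2 * f))), ?_⟩
        show d ^ (i : ZMod 2).val * φ ^ (l : ZMod (2 * f)).val = _
        rw [ZMod.val_natCast, ZMod.val_natCast, ← pow_eq_pow_mod l hφ, Nat.mod_eq_of_lt hi]
      rcases hker _ hk with e | e | e | e <;> rw [mul_inv_eq_iff_eq_mul] at e <;> rw [e]
      · simpa using key 0 n (by norm_num)
      · simpa using key 1 n (by norm_num)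
      · simpa [pow_add] using key 0 (f + n) (by norm_num)
      · simpa [pow_add, mul_assoc] using key 1 (f + n) (by norm_num)
  exact ⟨(MulEquiv.ofBijective Φ hb).symm.trans
    { toFun := fun x => Multiplicative.ofAdd (x.1.toAdd, x.2.toAdd)
      invFun := fun x => (Multiplicative.ofAdd x.toAdd.1, Multiplicative.ofAdd x.toAdd.2)
      left_inv := fun _ => rfl
      right_inv := fun _ => rfl
      map_mul' := fun _ _ => rfl }⟩

theorem ker_central {O : Type*} [Group O] {t s o : O} {f : ℕ} (hf : Odd f) (ht : t ^ f = 1) (hs : s * s = 1)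
    (hts : Commute t s) (h : t * o * t⁻¹ = o ∨ t * o * t⁻¹ = s * o) : t * o = o * t := by
  rcases h with h | h
  · exact mul_inv_eq_iff_eq_mul.1 h
  · have hn : ∀ n : ℕ, t ^ n * o * (t ^ n)⁻¹ = s ^ n * o := by
      intro n
      induction n with
      | zero => simp
      | succ n ih =>
        rw [pow_succ', _root_.mul_inv_rev, show t * t ^ n * o * ((t ^ n)⁻¹ * t⁻¹) = t * (t ^ n * o * (t ^ n)⁻¹) * t⁻¹ by
          group, ih, ← mul_assoc t, (hts.pow_right n).eq, mul_assoc (s ^ n), mul_assoc (s ^ n), h, pow_succ, mul_assoc]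
    have h1 := hn f
    rw [ht, inv_one, one_mul, mul_one] at h1
    have hsf : s ^ f = 1 := mul_right_cancel (b := o) (by rw [← h1, one_mul])
    obtain ⟨j, rfl⟩ := hf
    have h2 : s ^ (2 * j + 1) = s := by
      rw [pow_succ, pow_mul, pow_two, hs, one_pow, one_mul]
    rw [h2] at hsf
    rw [hsf, one_mul] at h
    exact mul_inv_eq_iff_eq_mul.1 h

/-- An endomorphism-like element preserving two invariants commutes with every lift. -/
theorem comm_of_invariants {A O X Y : Type*} [Group A] [Group O] [Group X] [Group Y] (c : A →* O) (ε : A →* X)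
    (θ : A →* Y) {s0 : A} {t : O} {f : ℕ} (hf : Odd f) (ht : t ^ f = 1) (he0 : ε s0 = 1) (ht0 : θ s0 = 1)
    (hs1 : c s0 ≠ 1) (hs2 : c s0 * c s0 = 1) (hK : ∀ x, ε x = 1 → θ x = 1 → c x = 1 ∨ c x = c s0)
    (hstep : ∀ x, ∃ x', ε x' = ε x ∧ θ x' = θ x ∧ t * c x = c x' * t) (x : A) : t * c x = c x * t := by
  have hts : Commute t (c s0) := by
    obtain ⟨x', he, ht', h⟩ := hstep s0
    rcases hK x' (he.trans he0) (ht'.trans ht0) with h3 | h3 <;> rw [h3] at h
    · rw [one_mul] at h
      exact absurd (mul_eq_left.1 h) hs1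
    · exact h
  obtain ⟨x', he, ht', h⟩ := hstep x
  refine ker_central hf ht hs2 hts ?_
  rw [mul_inv_eq_iff_eq_mul.2 h]
  rcases hK (x' * x⁻¹) (by rw [map_mul, map_inv, he, mul_inv_cancel]) (by rw [map_mul, map_inv, ht', mul_inv_cancel])
    with h3 | h3 <;> rw [map_mul, map_inv, mul_inv_eq_iff_eq_mul] at h3
  · exact Or.inl (by rw [h3, one_mul])
  · exact Or.inr h3

theorem sq_conj {O : Type*} [Group O] {φ a b c : O} (h1 : φ * a = b * φ) (h2 : φ * b = c * φ) :
    φ ^ 2 * a = c * φ ^ 2 := by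
  rw [pow_two, mul_assoc, h1, ← mul_assoc, h2, mul_assoc]

theorem map_sq_one {A O : Type*} [Group A] [Group O] (c : A →* O) {x : A} (h : x * x = 1) : c x * c x = 1 := by
  rw [← map_mul, h, map_one]

/-! ### Similitudes under semisimilarities -/

variable {F : Type u} [Field F] [Fintype F] [DecidableEq F]

section Inv

variable {ι : Type} [Fintype ι] [DecidableEq ι] {Q : QuadraticForm F (ι → F)} {n : ℕ} (S : Setup Q n)

include S

theorem semi_conj_inv {g : GL ι F} {σ : F ≃+* F} (hp : Cfsg.IsSemisimilarityPair (⇑Q) g σ) {x x' : GO Q}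
    (e : (x' : GL ι F) = g * glS σ (x : GL ι F) * g⁻¹) : S.e x' = S.e x ∧ S.t x' = S.t x := by
  obtain ⟨c, hc⟩ := hp
  have hdet : (gm Q x').det = σ (gm Q x).det := by
    show ((x' : GL ι F) : Matrix ι ι F).det = _
    rw [e, Units.val_mul, Units.val_mul, Matrix.det_units_conj, OrthSim.coe_glS]
    exact (RingEquiv.map_det σ _).symm
  have hmu : (mu Q x' : F) = σ (mu Q x) := by
    have h1 : mu Q x' = Units.map σ.toRingHom.toMonoidHom (mu Q x) := OrthSim.mu_eq Q S.hQ S.hn fun v => by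
      have h2 := semiMap_surj g σ v
      set w : ι → F := fun i => σ.symm ((((g⁻¹ : GL ι F) : Matrix ι ι F) *ᵥ v) i)
      have key : semiMap g σ (gm Q x *ᵥ w) = gm Q x' *ᵥ semiMap g σ w := by
        show _ = ((x' : GL ι F) : Matrix ι ι F) *ᵥ _
        simp only [semiMap, e, Units.val_mul, mulVec_mulVec, mul_assoc]
        rw [show ((g⁻¹ : GL ι F) : Matrix ι ι F) * (g : Matrix ι ι F) = 1 from by
          rw [← Units.val_mul, inv_mul_cancel, Units.val_one], mul_one, ← mulVec_mulVec, OrthSim.coe_glS]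
        exact congrArg _ (funext fun i => RingHom.map_mulVec σ.toRingHom _ w i)
      rw [← h2, ← key, semiMap_q hc, semiMap_q hc, mu_spec, map_mul]
      show (c : F) * (σ (mu Q x : F) * σ (Q w)) = σ (mu Q x : F) * ((c : F) * σ (Q w))
      ring
    rw [h1]; rfl
  have key : ∀ (u : Fˣ), (u = 1 ∨ u = -1) → σ (u : F) = (u : F) := by
    rintro u (rfl | rfl) <;> simp
  constructor
  · refine Units.ext ?_
    rw [Setup.e, OrthSim.coe_eps, OrthSim.coe_eps, hdet, hmu, ← map_pow, ← map_div₀,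
      ← OrthSim.coe_eps Q S.hQ S.hn S.hk]
    exact key _ (OrthSim.eps_pm Q S.hQ S.hn S.hk x)
  · refine Units.ext ?_
    rw [Setup.t, OrthSim.theta_apply, OrthSim.theta_apply, Units.val_pow_eq_pow_val, Units.val_pow_eq_pow_val, hmu,
      ← map_pow, ← Units.val_pow_eq_pow_val, ← OrthSim.theta_apply Q S.hQ S.hn]
    exact key _ (S.t_pm x)

theorem outC_eq_one' {x : GO Q} : outC x = 1 ↔ x ∈ NN Q :=
  (outC_eq_one_iff ⟨S.hQ, S.hn⟩).trans (OrthSim.mem_NN Q).symm

theorem outC_eq_of_K (hneg : ¬ Setup.NegMem Q) {x y : GO Q} (he : S.e x = S.e y) (ht : S.t x = S.t y) :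
    outC x = outC y := by
  rw [← mul_inv_eq_one, ← map_inv, ← map_mul, outC_eq_one' S, ← S.K_eq_NN hneg, S.mem_K, map_mul, map_mul, map_inv,
    map_inv, he, ht, mul_inv_cancel, mul_inv_cancel]
  exact ⟨rfl, rfl⟩

theorem map_sq_one' {x : GO Q} (h : x * x ∈ NN Q) : outC x * outC x = 1 :=
  (map_mul outC x x).symm.trans ((outC_eq_one' S).2 h)

theorem split_outC {x : GO Q} (hx : x ∈ S.K) (h2 : outC S.s0 * outC S.s0 = 1) :
    outC x = 1 ∨ outC x = outC S.s0 := by
  rcases S.K_split hx with h | h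
  · exact Or.inl ((outC_eq_one' S).2 h)
  · refine Or.inr ?_
    have h1 := (outC_eq_one' S).2 h
    rw [map_mul] at h1
    rw [eq_inv_of_mul_eq_one_right h1]
    exact inv_eq_of_mul_eq_one_left h2

end Inv

variable {k : ℕ} (hk : 3 ≤ k) {a b : F} (hab : Aniso a b)

local notation "ιM" => ((Fin k ⊕ Fin k) ⊕ Fin 2)
local notation "QM" => minusForm k F a b

include hk hab

omit [DecidableEq F] in
theorem good_minus : Good (minusForm k F a b) := ⟨minusForm_nondegenerate' k hab, by simp; omega⟩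

omit [DecidableEq F] in
theorem narrow_minus : Narrow (minusForm k F a b) := by
  have hn : Fintype.card ιM = 2 * k + 2 := by simp; omega
  rcases Nat.lt_or_ge k 4 with h | h
  · exact Or.inr fun T hT => (minus_ts_le hab hT).trans (by omega)
  · exact Or.inl (by omega)

variable {p f : ℕ} [Fact p.Prime] [CharP F p]

omit [DecidableEq F] in
theorem conjRefl_sq : conjRefl k hab * conjRefl k hab = 1 := refl_mul_self _ _ _

/-- The outer class of the twisted Frobenius. -/
theorem exists_phi (hf : 1 ≤ f) (hF : Fintype.card F = p ^ f) :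
    ∃ φ : Cfsg.Out (Cfsg.POmega F (⇑QM)),
      orderOf (chiO (good_minus hk hab) (narrow_minus hk hab) φ) = f ∧
      φ ^ f = outC (toGO QM (conjRefl k hab)) ∧
      ∀ x : GO QM, ∃ (g : GL ιM F) (σ : F ≃+* F) (x' : GO QM), Cfsg.IsSemisimilarityPair (⇑QM) g σ ∧
        (x' : GL ιM F) = g * glS σ (x : GL ιM F) * g⁻¹ ∧ φ * outC x = outC x' * φ := by
  obtain ⟨g, hp, hit⟩ := exists_twisted (k := k) p hab hf hF
  obtain ⟨hord, -⟩ := order_frobenius (F := F) hf hF
  refine ⟨QuotientGroup.mk (semiPO g _ hp), ?_, ?_, fun x => ?_⟩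
  · show orderOf (chi (good_minus hk hab) (narrow_minus hk hab) (semiPO g _ hp)) = f
    rw [chi_semi (good_minus hk hab) (narrow_minus hk hab) hp]
    exact hord
  · obtain ⟨h, hq, e, em⟩ := exists_pow hp f
    rw [← QuotientGroup.mk_pow, e]
    refine congrArg QuotientGroup.mk ?_
    rw [conjPO_eq_semi]
    have hσ : (frobeniusEquiv F p : F ≃+* F) ^ f = RingEquiv.refl F := by
      have h1 := pow_orderOf_eq_one (frobeniusEquiv F p : F ≃+* F)
      rw [hord] at h1
      exact h1
    refine semiPO_congr _ _ hσ fun v => ?_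
    rw [em, hit]
    rfl
  · obtain ⟨x', e, hx⟩ := semi_conj hp x
    exact ⟨g, _, x', hp, e, congrArg QuotientGroup.mk hx⟩

theorem out_minus_two (h2 : (2 : F) = 0) (hf : 1 ≤ f) (hF : Fintype.card F = p ^ f) (φ : (ιM → F) → F) (hφ : φ = ⇑QM) :
    IsCyclic (Cfsg.Out (Cfsg.POmega F φ)) ∧ Nat.card (Cfsg.Out (Cfsg.POmega F φ)) = 2 * f := by
  subst hφ
  have G := good_minus (F := F) hk hab
  have hH := narrow_minus (F := F) hk hab
  have hb := G.big
  obtain ⟨φ, hord, hpow, -⟩ := exists_phi (p := p) hk hab hf hF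
  have hG : Nat.card (F ≃+* F) = f := (Known.FieldLight.ringAut_facts (F := F) p f hF).2
  haveI : CharP F 2 := CharTwo.of_one_ne_zero_of_two_eq_zero one_ne_zero h2
  have hidx := index_omega_two QM G.nd (by omega) (Or.inr (by omega))
  set R := conjRefl k hab
  set r : Cfsg.Out (Cfsg.POmega F (⇑QM)) := outC (toGO QM R)
  have hR : R ∉ Cfsg.Omega F (⇑QM) := fun h => by
    have h1 := hom_eq_one_of_omega QM (dickson QM G.nd) h
    rw [show R = conjRefl k hab from rfl, conjRefl, dickson_refl] at h1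
    exact absurd h1 (by decide)
  have hc1 : ∀ c : F, c * c = 1 → c = 1 := fun c hc => by
    have : (c - 1) * (c - 1) = 0 := by linear_combination hc + (1 - c) * h2
    exact sub_eq_zero.1 ((mul_self_eq_zero).1 this)
  have hr1 : r ≠ 1 := by
    intro h
    obtain ⟨c, s, hs, e⟩ := (outC_eq_one_iff G).1 h
    have hmu := congrArg (mu QM) e
    rw [OrthSim.mu_mul QM G.nd G.big, OrthSim.mu_scal QM G.nd G.big, OrthSim.mu_toGO QM G.nd G.big,
      OrthSim.mu_toGO QM G.nd G.big, mul_one] at hmu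
    have hc : c = 1 := Units.ext (hc1 _ (by rw [← Units.val_mul, ← hmu, Units.val_one]))
    rw [hc, map_one, one_mul] at e
    exact hR (OrthSim.toGO_injective QM e ▸ hs)
  have hker : ∀ o, chiO G hH o = 1 → o = 1 ∨ o = r := by
    intro o h
    obtain ⟨x, rfl⟩ := (mem_ker_chiO G hH o).1 h
    obtain ⟨t, ht⟩ := exists_sqrt_two h2 (mu QM x : F)
    have ht0 : t ≠ 0 := fun e => (mu QM x).ne_zero (by rw [← ht, e, mul_zero])
    obtain ⟨s, hs⟩ := OrthSim.exists_iso_of_mu QM G.nd G.big (g := scal QM (Units.mk0 t ht0)⁻¹ * x) (by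
      rw [OrthSim.mu_mul QM G.nd G.big, OrthSim.mu_scal QM G.nd G.big, ← mul_inv,
        show Units.mk0 t ht0 * Units.mk0 t ht0 = mu QM x from Units.ext ht, inv_mul_cancel])
    have e : outC x = outC (toGO QM s) := by
      rw [← hs, map_mul, (outC_eq_one_iff G (x := scal QM (Units.mk0 t ht0)⁻¹)).2
        ⟨(Units.mk0 t ht0)⁻¹, 1, one_mem _, by rw [map_one, mul_one]⟩, one_mul]
    rw [e]
    by_cases hsO : s ∈ Cfsg.Omega F (⇑QM)
    · exact Or.inl ((outC_eq_one_iff G).2 ⟨1, s, hsO, by rw [map_one, one_mul]⟩)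
    · refine Or.inr ?_
      rw [← mul_inv_eq_one]
      show outC (toGO QM s) * (outC (toGO QM R))⁻¹ = 1
      rw [← map_inv, ← map_mul, ← map_inv (toGO QM), ← map_mul (toGO QM)]
      refine (outC_eq_one_iff G).2 ⟨1, _, ?_, by rw [map_one, one_mul]⟩
      rw [Subgroup.mul_mem_iff_of_index_two hidx, inv_mem_iff]
      exact ⟨fun h => absurd h hsO, fun h => absurd h hR⟩
  have hr2 : r * r = 1 := map_sq_one outC (map_sq_one (toGO QM) (conjRefl_sq hk hab))
  have hn : orderOf φ = 2 * f := by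
    obtain ⟨j, hj⟩ : f ∣ orderOf φ := hord ▸ orderOf_map_dvd (chiO G hH) φ
    have h2f : orderOf φ ∣ 2 * f := orderOf_dvd_of_pow_eq_one (by rw [mul_comm, pow_mul, hpow, pow_two]; exact hr2)
    rw [hj, mul_comm 2 f, Nat.mul_dvd_mul_iff_left (by omega)] at h2f
    rcases (Nat.dvd_prime Nat.prime_two).1 h2f with rfl | rfl
    · exfalso
      rw [mul_one] at hj
      exact hr1 (hpow.symm.trans (hj ▸ pow_orderOf_eq_one φ))
    · rw [hj, mul_comm]
  have hsurj : Function.Surjective (chiO G hH) := by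
    haveI : Finite (F ≃+* F) := Finite.of_injective _ DFunLike.coe_injective
    intro σ
    have hz : Subgroup.zpowers (chiO G hH φ) = ⊤ :=
      Subgroup.eq_top_of_card_eq _ (by rw [Nat.card_zpowers, hord, hG])
    obtain ⟨j, hj⟩ := Subgroup.mem_zpowers_iff.1 (hz ▸ Subgroup.mem_top σ)
    exact ⟨φ ^ j, by rw [map_zpow, hj]⟩
  have hK : Nat.card (chiO G hH).ker = 2 := by
    refine Nat.card_eq_two_iff.2 ⟨1, ⟨r, chi_conjPO G hH _⟩, fun h => hr1 (congrArg Subtype.val h).symm, ?_⟩
    refine Set.eq_univ_of_forall fun o => ?_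
    rcases hker o.1 o.2 with e | e
    · exact Or.inl (Subtype.ext e)
    · exact Or.inr (Subtype.ext e)
  have hcard : Nat.card (Cfsg.Out (Cfsg.POmega F (⇑QM))) = 2 * f := by
    rw [Subgroup.card_eq_card_quotient_mul_card_subgroup (chiO G hH).ker,
      Nat.card_congr (QuotientGroup.quotientKerEquivOfSurjective _ hsurj).toEquiv, hG, hK, mul_comm]
  haveI : Finite (Cfsg.Out (Cfsg.POmega F (⇑QM))) := Nat.finite_of_card_ne_zero (by omega)
  exact ⟨isCyclic_of_orderOf_eq_card φ (hn.trans hcard.symm), hcard⟩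

set_option maxHeartbeats 1600000 in
theorem out_minus_odd (h2 : (2 : F) ≠ 0) (hf : 1 ≤ f) (hF : Fintype.card F = p ^ f) (φ : (ιM → F) → F)
    (hφ : φ = ⇑QM) :
    if Fintype.card F % 4 = 3 ∧ Even k then
      Nonempty (Cfsg.Out (Cfsg.POmega F φ) ≃* DihedralGroup 4 × Multiplicative (ZMod f))
    else Nonempty (Cfsg.Out (Cfsg.POmega F φ) ≃* Multiplicative (ZMod 2 × ZMod (2 * f))) := by
  subst hφ
  have G := good_minus (F := F) hk hab
  have hH := narrow_minus (F := F) hk hab
  let S := OrthSim.setupM h2 hk hab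
  obtain ⟨φ, hord, hpow, hconj⟩ := exists_phi (p := p) hk hab hf hF
  set R : GO QM := toGO QM (conjRefl k hab)
  have heR : S.e R = -1 := by
    rw [Setup.e, OrthSim.eps_toGO, conjRefl, detHom_refl]
  have htR : S.t R = 1 := by
    rw [S.t_eq_one_iff, OrthSim.mu_toGO QM S.hQ S.hn]; exact IsSquare.one
  have hD : S.e S.D = 1 := S.hD1
  have hχ : ∀ x : GO QM, chiO G hH (outC x) = 1 := fun x => chi_conjPO G hH x
  have hG : Nat.card (F ≃+* F) = f := (Known.FieldLight.ringAut_facts (F := F) p f hF).2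
  have hne : ∀ x : GO QM, S.e x = -1 ∨ S.t x = -1 → outC x ≠ 1 := by
    intro x hx h
    obtain ⟨h1, h1'⟩ := S.mem_K.1 (S.nn_le ((outC_eq_one' S).1 h))
    rcases hx with e | e
    · exact S.neg_ne (e.symm.trans h1)
    · exact S.neg_ne (e.symm.trans h1')
  have hR2 : outC R * outC R = 1 := map_sq_one outC (map_sq_one (toGO QM) (conjRefl_sq hk hab))
  have hφ2 : φ ^ (2 * f) = 1 := by rw [mul_comm, pow_mul, hpow, pow_two]; exact hR2
  have hodd : Odd (Fintype.card F) := by
    rw [Nat.odd_iff]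
    exact FiniteField.odd_card_of_char_ne_two
      (fun h => h2 (by haveI := ringChar.of_eq h; exact CharTwo.two_eq_zero))
  have hnegiff := OrthSim.negMem_minus h2 hk hab hodd
  split_ifs with hc
  · -- the dihedral case
    have hneg : Setup.NegMem QM := hnegiff.2 ⟨hc.2, hc.1⟩
    have hfo : Odd f := by
      rcases Nat.even_or_odd f with ⟨j, rfl⟩ | h
      · exfalso
        have h4 := hc.1
        have hp2 : p % 2 = 1 := by
          rcases (Fact.out : p.Prime).eq_two_or_odd with h | h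
          · rw [h, ← two_mul] at hF
            exact absurd (hF ▸ hodd) (by simp [Nat.even_pow, Nat.not_odd_iff_even]; omega)
          · exact h
        rw [hF, ← two_mul, pow_mul, Nat.pow_mod, Nat.pow_mod p 2 4] at h4
        rcases (show p % 4 = 1 ∨ p % 4 = 3 by omega) with h | h <;> rw [h] at h4 <;> norm_num at h4
      · exact h
    obtain ⟨ψ, hψ, hψk⟩ := S.pgo_mod_inn_two hneg
    let M : ↥(Cfsg.pgoAut F (⇑QM)) →* (chiO G hH).ker :=
      ((QuotientGroup.mk' (Cfsg.Inn (Cfsg.POmega F (⇑QM)))).comp (Subgroup.subtype _)).codRestrict _ fun α => by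
        have h1 := α.2
        simp only [OrthSim.pgoAut_eq] at h1
        obtain ⟨x, -, hx⟩ := h1
        show chiO G hH (QuotientGroup.mk α.1) = 1
        rw [← hx]
        exact hχ x
    have hMs : Function.Surjective M := by
      rintro ⟨o, ho⟩
      obtain ⟨x, rfl⟩ := (mem_ker_chiO G hH o).1 ho
      exact ⟨⟨conjPO QM x, by rw [OrthSim.pgoAut_eq]; exact ⟨x, trivial, rfl⟩⟩, Subtype.ext rfl⟩
    have hMk : M.ker = ψ.ker := by
      ext α
      rw [hψk, MonoidHom.mem_ker, Subgroup.mem_subgroupOf, Subtype.ext_iff]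
      exact QuotientGroup.eq_one_iff _
    let e : DihedralGroup 4 ≃* (chiO G hH).ker :=
      (QuotientGroup.quotientKerEquivOfSurjective ψ hψ).symm.trans
        ((QuotientGroup.quotientMulEquivOfEq hMk.symm).trans (QuotientGroup.quotientKerEquivOfSurjective M hMs))
    haveI : NeZero f := ⟨by omega⟩
    set t := φ ^ 2
    have ht : t ^ f = 1 := by rw [← pow_mul, hφ2]
    have hs1 : outC S.s0 ≠ 1 := fun h => S.s0_notMem hneg ((outC_eq_one' S).1 h)
    have hs2 : outC S.s0 * outC S.s0 = 1 := map_sq_one' S S.s0_sq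
    have hK : ∀ x, S.e x = 1 → S.t x = 1 → outC x = 1 ∨ outC x = outC S.s0 := fun x h h' =>
      split_outC S (S.mem_K.2 ⟨h, h'⟩) hs2
    have hstep : ∀ x : GO QM, ∃ x' : GO QM, S.e x' = S.e x ∧ S.t x' = S.t x ∧ t * outC x = outC x' * t := by
      intro x
      obtain ⟨g, σ, x', hp, e1, h1⟩ := hconj x
      obtain ⟨g', σ', x'', hp', e2, h2'⟩ := hconj x'
      obtain ⟨he1, ht1⟩ := semi_conj_inv S hp e1
      obtain ⟨he2, ht2⟩ := semi_conj_inv S hp' e2
      exact ⟨x'', he2.trans he1, ht2.trans ht1, sq_conj h1 h2'⟩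
    have hcomm : ∀ o, chiO G hH o = 1 → t * o = o * t := by
      intro o ho
      obtain ⟨x, rfl⟩ := (mem_ker_chiO G hH o).1 ho
      exact comm_of_invariants outC S.e S.t hfo ht (S.mem_K.1 S.s0_mem).1 (S.mem_K.1 S.s0_mem).2 hs1 hs2 hK hstep x
    refine prod_of_lift (chiO G hH) e t ht hcomm ?_ hG
    rw [map_pow, Nat.Coprime.orderOf_pow (hord ▸ Nat.coprime_two_right.2 hfo), hord]
  · -- the abelian case
    have hneg : ¬ Setup.NegMem QM := fun h => hc ⟨(hnegiff.1 h).2, (hnegiff.1 h).1⟩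
    set d := outC S.D
    refine prod_two (chiO G hH) hf (d := d) ?_ hφ2 ?_ (hχ _) hord hG (hne _ (Or.inr S.t_D)) ?_ ?_ ?_
    · show outC S.D * outC S.D = 1
      rw [← map_mul, ← map_one (outC (Q := QM))]
      exact outC_eq_of_K S hneg (by rw [map_mul, hD, mul_one, map_one])
        (by rw [map_mul, S.t_D, neg_mul_neg, one_mul, map_one])
    · obtain ⟨g, σ, x', hp, e, h⟩ := hconj S.D
      obtain ⟨he, ht⟩ := semi_conj_inv S hp e
      rw [outC_eq_of_K S hneg he ht] at h
      exact h.symm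
    · rw [hpow]; exact hne _ (Or.inl heR)
    · rw [hpow]
      intro h
      have h1 : outC (S.D * R⁻¹) = 1 := by rw [map_mul, map_inv, ← h, mul_inv_cancel]
      exact hne _ (Or.inl (by rw [map_mul, map_inv, hD, heR, inv_neg, inv_one, one_mul])) h1
    · intro o ho
      obtain ⟨x, rfl⟩ := (mem_ker_chiO G hH o).1 ho
      rw [hpow]
      rcases OrthSim.eps_pm QM S.hQ S.hn S.hk x with h | h <;> rcases S.t_pm x with h' | h'
      · refine Or.inl ?_
        rw [← map_one (outC (Q := QM))]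
        exact outC_eq_of_K S hneg (by rw [map_one]; exact h) (by rw [map_one]; exact h')
      · exact Or.inr (Or.inl (outC_eq_of_K S hneg (h.trans hD.symm) (h'.trans S.t_D.symm)))
      · exact Or.inr (Or.inr (Or.inl (outC_eq_of_K S hneg (h.trans heR.symm) (h'.trans htR.symm))))
      · refine Or.inr (Or.inr (Or.inr ?_))
        rw [← map_mul]
        exact outC_eq_of_K S hneg (by rw [map_mul, hD, heR, one_mul]; exact h)
          (by rw [map_mul, S.t_D, htR, mul_one]; exact h')

end Cfsg.Lib.OrthOut
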