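import Cfsg.Agent.Known.OrthAut.Main
import Cfsg.Prelude.Def_KGroupFacts

/-!
The field part of an automorphism of `PΩ(Q)`.
-/

set_option autoImplicit false
set_option linter.unusedSectionVars false
set_option linter.style.haveILetI false

namespace Cfsg.Lib.OrthOut

open Matrix Cfsg.Lib.Classical Cfsg.Lib.Classical.Refl Cfsg.Lib.OrthAut
open Cfsg.Lib.OrthSim (GO gm semiPO induced_semi_iff induced_iff glS conjPO toGO scal pair_comp semiPO_mul)

universe u

variable {F : Type u} [Field F] [Fintype F] [DecidableEq F] {ι : Type} [Fintype ι] [DecidableEq ι]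
  {Q : QuadraticForm F (ι → F)}

set_option quotPrecheck false
local notation "B'" => QuadraticMap.polar (DFunLike.coe Q)
local notation "Pm" => Cfsg.POmega F (DFunLike.coe Q)

/-! ### Semilinear maps -/

theorem semiMap_comp (g h : GL ι F) (σ τ : F ≃+* F) (x : ι → F) :
    semiMap (g * glS σ h) (τ.trans σ) x = semiMap g σ (semiMap h τ x) := by
  rw [semiMap, semiMap, semiMap, Units.val_mul, ← mulVec_mulVec, OrthSim.coe_glS]
  exact congrArg _ (funext fun i => (RingHom.map_mulVec σ.toRingHom _ _ i).symm)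

theorem gl_eq_of_semiMap {g h : GL ι F} {σ : F ≃+* F} (e : ∀ x, semiMap g σ x = semiMap h σ x) : g = h := by
  refine Units.ext (Matrix.toLin'.injective (LinearMap.ext fun x => ?_))
  have := e fun i => σ.symm (x i)
  simpa [semiMap] using this

theorem semiPO_congr {g h : GL ι F} {σ τ : F ≃+* F} (hp : Cfsg.IsSemisimilarityPair (⇑Q) g σ)
    (hq : Cfsg.IsSemisimilarityPair (⇑Q) h τ) (hσ : σ = τ) (e : ∀ x, semiMap g σ x = semiMap h τ x) :
    semiPO g σ hp = semiPO h τ hq := by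
  subst hσ
  obtain rfl := gl_eq_of_semiMap e
  rfl

/-- The powers of a semisimilarity. -/
theorem exists_pow {g : GL ι F} {σ : F ≃+* F} (hp : Cfsg.IsSemisimilarityPair (⇑Q) g σ) (n : ℕ) :
    ∃ (h : GL ι F) (hq : Cfsg.IsSemisimilarityPair (⇑Q) h (σ ^ n)),
      semiPO g σ hp ^ n = semiPO h (σ ^ n) hq ∧ ∀ x, semiMap h (σ ^ n) x = (semiMap g σ)^[n] x := by
  induction n with
  | zero =>
    have hq : Cfsg.IsSemisimilarityPair (⇑Q) (1 : GL ι F) (σ ^ 0) := ⟨1, fun v => by
      rw [pow_zero, Units.val_one, one_mulVec, Units.val_one, one_mul]; rfl⟩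
    refine ⟨1, hq, ?_, fun x => by rw [semiMap, pow_zero, Units.val_one, one_mulVec]; rfl⟩
    rw [pow_zero, eq_comm]
    symm
    refine (induced_semi_iff _ _ hq _).1 fun s s' h => congrArg QuotientGroup.mk
      (Subtype.ext (Subtype.ext (Units.ext ?_)))
    rw [h, pow_zero]
    simp
  | succ n ih =>
    obtain ⟨h, hq, e, em⟩ := ih
    have hσ : (σ ^ n).trans σ = σ ^ (n + 1) := by rw [pow_succ']; rfl
    have hq' : Cfsg.IsSemisimilarityPair (⇑Q) (g * glS σ h) (σ ^ (n + 1)) := hσ ▸ pair_comp hp hq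
    refine ⟨g * glS σ h, hq', ?_, fun x => ?_⟩
    · rw [pow_succ', e, semiPO_mul hp hq]
      exact semiPO_congr _ _ hσ fun x => by rw [hσ]
    · rw [← hσ, semiMap_comp, em, Function.iterate_succ_apply']

theorem semiPO_refl_eq {g : GL ι F} (hp : Cfsg.IsSemisimilarityPair (⇑Q) g (RingEquiv.refl F)) (hg : g ∈ GO Q) :
    semiPO g (RingEquiv.refl F) hp = conjPO Q ⟨g, hg⟩ :=
  (induced_iff Q ⟨g, hg⟩ _).1 ((induced_semi_iff g _ hp _).2 rfl)

theorem pair_refl (x : GO Q) : Cfsg.IsSemisimilarityPair (⇑Q) (x : GL ι F) (RingEquiv.refl F) := by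
  obtain ⟨c, hc⟩ := x.2
  exact ⟨c, hc⟩

theorem conjPO_eq_semi (x : GO Q) : conjPO Q x = semiPO (x : GL ι F) (RingEquiv.refl F) (pair_refl x) :=
  (semiPO_refl_eq (pair_refl x) x.2).symm

/-- Conjugates of similitudes by semisimilarities. -/
theorem semi_conj {g : GL ι F} {σ : F ≃+* F} (hp : Cfsg.IsSemisimilarityPair (⇑Q) g σ) (x : GO Q) :
    ∃ x' : GO Q, (x' : GL ι F) = g * glS σ (x : GL ι F) * g⁻¹ ∧
      semiPO g σ hp * conjPO Q x = conjPO Q x' * semiPO g σ hp := by
  obtain ⟨c, hc⟩ := hp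
  obtain ⟨d, hd⟩ := x.2
  set y : GL ι F := g * glS σ (x : GL ι F) * g⁻¹ with hy
  have key : ∀ v, semiMap g σ ((gm Q x) *ᵥ v) = (y : Matrix ι ι F) *ᵥ semiMap g σ v := fun v => by
    simp only [semiMap, hy, Units.val_mul, mulVec_mulVec, mul_assoc]
    rw [show ((g⁻¹ : GL ι F) : Matrix ι ι F) * (g : Matrix ι ι F) = 1 from by
      rw [← Units.val_mul, inv_mul_cancel, Units.val_one], mul_one, ← mulVec_mulVec, OrthSim.coe_glS]
    exact congrArg _ (funext fun i => RingHom.map_mulVec σ.toRingHom _ v i)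
  have hy' : y ∈ GO Q := by
    refine ⟨Units.map σ.toRingHom.toMonoidHom d, fun v => ?_⟩
    have h1 := semiMap_surj g σ v
    set w : ι → F := fun i => σ.symm ((((g⁻¹ : GL ι F) : Matrix ι ι F) *ᵥ v) i)
    rw [← h1, ← key, semiMap_q hc, semiMap_q hc, show Q (gm Q x *ᵥ w) = (d : F) * Q w from hd w, map_mul]
    show (c : F) * (σ d * σ (Q w)) = σ d * ((c : F) * σ (Q w))
    ring
  refine ⟨⟨y, hy'⟩, rfl, MulEquiv.ext fun z => QuotientGroup.induction_on z fun t => ?_⟩
  refine congrArg QuotientGroup.mk (Subtype.ext (Subtype.ext ?_))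
  show g * glS σ ((x : GL ι F) * (t.1 : GL ι F) * (x : GL ι F)⁻¹) * g⁻¹ =
    y * (g * glS σ (t.1 : GL ι F) * g⁻¹) * y⁻¹
  simp only [hy, map_mul, map_inv, _root_.mul_inv_rev, inv_inv, mul_assoc, inv_mul_cancel_left]

/-! ### The field part -/

variable (G : Good Q)

include G

/-- The field part is determined. -/
theorem field_unique {g h : GL ι F} {σ τ : F ≃+* F} (hp : Cfsg.IsSemisimilarityPair (⇑Q) g σ)
    (hq : Cfsg.IsSemisimilarityPair (⇑Q) h τ) (e : semiPO g σ hp = semiPO h τ hq) : σ = τ := by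
  obtain ⟨c, hc⟩ := id hp
  obtain ⟨d, hd⟩ := id hq
  have hf := semi_pointMap G hp hc
  have hk := semi_pointMap G hq hd
  rw [← e] at hk
  have hmem : ∀ w, Q w = 0 → w ≠ 0 → semiMap g σ w ∈ Submodule.span F {semiMap h τ w} := fun w hw hw0 =>
    hk.mem_of_lines hw hw0 fun N M hNM hwN => ((hf w hw hw0).2.2 N M hNM).1 hwN
  obtain ⟨u, -, r, -, hu, hr, hur⟩ := exists_pair_perp Q G.nd ⊥ (by rw [finrank_bot]; have := G.big; omega)
  have hu0 : u ≠ 0 := fun h => by rw [h, QuadraticMap.polar_zero_left] at hur; exact zero_ne_one hur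
  have hb := G.big
  obtain ⟨w, hw, hQw, hwY⟩ := exists_singular_avoid (Q := Q) (HypQuad.perp Q (Submodule.span F {u}))
    (Submodule.span F {u}) (by
      rw [HypQuad.finrank_perp Q G.nd, OrthAut.finrank_V, finrank_span_singleton hu0]
      omega)
  have huw : B' u w = 0 := (HypQuad.mem_perp Q).1 hw u (Submodule.mem_span_singleton_self u)
  have hw0 : w ≠ 0 := fun h => hwY (by rw [h]; exact zero_mem _)
  obtain ⟨k, hk1⟩ := Submodule.mem_span_singleton.1 (hmem u hu hu0)
  obtain ⟨k', hk2⟩ := Submodule.mem_span_singleton.1 (hmem w hQw hw0)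
  have hk0 : k ≠ 0 := fun h0 => (hf u hu hu0).2.1 (by rw [← hk1, h0, zero_smul])
  have main : ∀ x : F, σ x * k = k' * τ x := fun x => by
    have hs : Q (x • u + w) = 0 := by
      rw [OrthAut.q_add, q_smul, hu, hQw, QuadraticMap.polar_smul_left, huw]; simp
    have hs0 : x • u + w ≠ 0 := fun h0 => hwY (Submodule.mem_span_singleton.2 ⟨-x, by
      rw [neg_smul]; exact (eq_neg_of_add_eq_zero_right h0).symm⟩)
    obtain ⟨l, hl⟩ := Submodule.mem_span_singleton.1 (hmem _ hs hs0)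
    rw [semiMap_add, semiMap_add, semiMap_smul, semiMap_smul, ← hk1, ← hk2, smul_add, smul_smul, smul_smul] at hl
    have hindep : ∀ a b : F, a • semiMap h τ u + b • semiMap h τ w = 0 → a = 0 ∧ b = 0 := fun a b hab => by
      have h1 : semiMap h τ (τ.symm a • u + τ.symm b • w) = semiMap h τ 0 := by
        rw [semiMap_add, semiMap_smul, semiMap_smul, τ.apply_symm_apply, τ.apply_symm_apply, hab, semiMap]
        simp [← Pi.zero_def]
      have h2 := semiMap_injective h τ h1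
      have hb0 : τ.symm b = 0 := by
        by_contra hb'
        refine hwY ((Submodule.smul_mem_iff _ hb').1 (Submodule.mem_span_singleton.2 ⟨-τ.symm a, ?_⟩))
        rw [neg_smul]
        exact (eq_neg_of_add_eq_zero_right h2).symm
      rw [hb0, zero_smul, add_zero, smul_eq_zero] at h2
      exact ⟨by simpa using h2.resolve_right hu0, by simpa using hb0⟩
    obtain ⟨h1, h2⟩ := hindep (σ x * k - l * τ x) (k' - l) (by linear_combination (norm := module) -hl)
    linear_combination h1 - τ x * h2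
  have h1 := main 1
  rw [map_one, map_one, one_mul, mul_one] at h1
  exact RingEquiv.ext fun x => mul_right_cancel₀ hk0 (by rw [main x, ← h1, mul_comm])

theorem exists_semi (hH : Narrow Q) (α : MulAut Pm) :
    ∃ g σ, ∃ hp : Cfsg.IsSemisimilarityPair (⇑Q) g σ, α = semiPO g σ hp :=
  OrthSim.exists_pair_of_mem_gamma (by rw [OrthAut.gamma_eq_top G hH]; exact Subgroup.mem_top α)

/-- The field part of an automorphism. -/
noncomputable def chi (hH : Narrow Q) : MulAut Pm →* (F ≃+* F) :=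
  MonoidHom.mk' (fun α => (exists_semi G hH α).choose_spec.choose) fun α β => by
    obtain ⟨hp, e1⟩ := (exists_semi G hH α).choose_spec.choose_spec
    obtain ⟨hq, e2⟩ := (exists_semi G hH β).choose_spec.choose_spec
    obtain ⟨hr, e3⟩ := (exists_semi G hH (α * β)).choose_spec.choose_spec
    exact field_unique G hr _ (e3.symm.trans ((congrArg₂ (· * ·) e1 e2).trans (semiPO_mul hp hq)))

theorem chi_semi (hH : Narrow Q) {g : GL ι F} {σ : F ≃+* F} (hp : Cfsg.IsSemisimilarityPair (⇑Q) g σ) :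
    chi G hH (semiPO g σ hp) = σ := by
  obtain ⟨hq, e⟩ := (exists_semi G hH (semiPO g σ hp)).choose_spec.choose_spec
  exact field_unique G hq hp e.symm

theorem chi_conjPO (hH : Narrow Q) (x : GO Q) : chi G hH (conjPO Q x) = 1 := by
  rw [conjPO_eq_semi]; exact chi_semi G hH _

theorem chi_eq_one_iff (hH : Narrow Q) (α : MulAut Pm) : chi G hH α = 1 ↔ ∃ x : GO Q, α = conjPO Q x := by
  constructor
  · intro h
    obtain ⟨g, σ, hp, rfl⟩ := exists_semi G hH α
    rw [chi_semi] at h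
    subst h
    obtain ⟨c, hc⟩ := id hp
    exact ⟨⟨g, c, hc⟩, semiPO_refl_eq hp _⟩
  · rintro ⟨x, rfl⟩
    exact chi_conjPO G hH x

theorem inn_le_ker (hH : Narrow Q) : Cfsg.Inn Pm ≤ (chi G hH).ker := by
  intro α hα
  rw [OrthSim.inn_eq] at hα
  obtain ⟨x, -, rfl⟩ := hα
  exact chi_conjPO G hH x

/-- The field part of an outer automorphism. -/
noncomputable def chiO (hH : Narrow Q) : Cfsg.Out Pm →* (F ≃+* F) :=
  QuotientGroup.lift (Cfsg.Inn Pm) (chi G hH) (inn_le_ker G hH)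

/-- The outer class of a similitude. -/
noncomputable def outC : GO Q →* Cfsg.Out Pm := (QuotientGroup.mk' (Cfsg.Inn Pm)).comp (conjPO Q)

theorem mem_ker_chiO (hH : Narrow Q) (o : Cfsg.Out Pm) : o ∈ (chiO G hH).ker ↔ ∃ x : GO Q, o = outC x := by
  constructor
  · intro h
    obtain ⟨α, rfl⟩ := QuotientGroup.mk_surjective o
    obtain ⟨x, hx⟩ := (chi_eq_one_iff G hH α).1 h
    exact ⟨x, congrArg QuotientGroup.mk hx⟩
  · rintro ⟨x, rfl⟩
    exact chi_conjPO G hH x

theorem outC_eq_one_iff {x : GO Q} : outC x = 1 ↔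
    ∃ (c : Fˣ) (s : Cfsg.isometryGroup F (⇑Q)), s ∈ Cfsg.Omega F (⇑Q) ∧ x = scal Q c * toGO Q s := by
  rw [outC, MonoidHom.comp_apply, QuotientGroup.mk'_apply, QuotientGroup.eq_one_iff, OrthSim.inn_eq]
  constructor
  · rintro ⟨_, ⟨s, hs, rfl⟩, e⟩
    have hk : (toGO Q s)⁻¹ * x ∈ (conjPO Q).ker := by rw [MonoidHom.mem_ker, map_mul, map_inv, e, inv_mul_cancel]
    rw [OrthSim.conjPO_ker Q G.nd G.big] at hk
    obtain ⟨c, hc⟩ := hk
    exact ⟨c, s, hs, by rw [OrthSim.scal_comm, hc, mul_inv_cancel_left]⟩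
  · rintro ⟨c, s, hs, rfl⟩
    exact ⟨_, ⟨s, hs, rfl⟩, by rw [map_mul, OrthSim.conjPO_scal, one_mul]⟩

end Cfsg.Lib.OrthOut
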