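import Cfsg.Agent.Known.OrthOut.Odd

/-!
The Frobenius map of the minus form, through the quadratic extension on the anisotropic plane.
-/

set_option autoImplicit false
set_option linter.unusedSectionVars false
set_option linter.style.haveILetI false

namespace Cfsg.Lib.OrthOut

open Matrix Cfsg.Lib.Classical Cfsg.Lib.Classical.Refl Cfsg.Lib.OrthAut
open Cfsg.Lib.OrthSim (GO gm semiPO induced_semi_iff induced_iff glS conjPO toGO scal pair_comp semiPO_mul mu mu_spec Aniso)

universe u

variable {F : Type u} [Field F] [Fintype F]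

/-- A semilinear injection is the map of a pair. -/
theorem exists_gl_semi {ι : Type} [Fintype ι] [DecidableEq ι] (σ : F ≃+* F) (Φ : (ι → F) → ι → F)
    (hadd : ∀ x y, Φ (x + y) = Φ x + Φ y) (hsmul : ∀ (c : F) (x : ι → F), Φ (c • x) = σ c • Φ x)
    (hinj : ∀ x, Φ x = 0 → x = 0) : ∃ g : GL ι F, ∀ x, semiMap g σ x = Φ x := by
  let ℓ : (ι → F) →ₗ[F] (ι → F) :=
    { toFun := fun y => Φ fun i => σ.symm (y i)
      map_add' := fun x y => by
        rw [← hadd]; exact congrArg Φ (funext fun i => map_add σ.symm _ _)
      map_smul' := fun c y => by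
        have e : (fun i => σ.symm ((c • y) i)) = σ.symm c • fun i => σ.symm (y i) := funext fun i => by simp
        rw [e, hsmul, σ.apply_symm_apply, RingHom.id_apply] }
  have hℓ : Function.Injective ℓ := (injective_iff_map_eq_zero ℓ).2 fun y hy => funext fun i => by
    have := congrFun (hinj _ hy) i
    simpa using this
  have hdet : (LinearMap.toMatrix' ℓ).det ≠ 0 := by
    have h := LinearEquiv.isUnit_det' (LinearEquiv.ofBijective ℓ (Finite.injective_iff_bijective.1 hℓ))
    rw [LinearMap.det_toMatrix']
    exact h.ne_zero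
  refine ⟨Matrix.GeneralLinearGroup.mkOfDetNeZero _ hdet, fun x => ?_⟩
  show LinearMap.toMatrix' ℓ *ᵥ (fun i => σ (x i)) = Φ x
  rw [LinearMap.toMatrix'_mulVec]
  exact congrArg Φ (funext fun i => σ.symm_apply_apply _)

theorem order_frobenius {p f : ℕ} [Fact p.Prime] [CharP F p] (hf : 1 ≤ f) (hF : Fintype.card F = p ^ f) :
    orderOf (frobeniusEquiv F p : F ≃+* F) = f ∧
      ∀ (n : ℕ) (x : F), ((frobeniusEquiv F p : F ≃+* F) ^ n) x = x ^ p ^ n := by
  have happ : ∀ (n : ℕ) (x : F), ((frobeniusEquiv F p : F ≃+* F) ^ n) x = x ^ p ^ n := fun n => by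
    induction n with
    | zero => intro x; rw [pow_zero, pow_zero, pow_one]; rfl
    | succ n ih =>
      intro x
      rw [pow_succ', RingAut.mul_apply, ih, frobeniusEquiv_apply, frobenius_def, ← pow_mul, ← pow_succ]
  refine ⟨(orderOf_eq_iff (by omega)).2 ⟨RingEquiv.ext fun x => ?_, fun j hj hj0 h => ?_⟩, happ⟩
  · rw [happ, ← hF, FiniteField.pow_card]; rfl
  · obtain ⟨g, hg⟩ := IsCyclic.exists_ofOrder_eq_natCard (α := Fˣ)
    rw [Nat.card_units, Nat.card_eq_fintype_card, hF] at hg
    have h1 : (g : F) ^ p ^ j = (g : F) := by rw [← happ, h]; rfl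
    have h2 : g ^ (p ^ j - 1) = 1 := by
      refine mul_right_cancel (b := g) ?_
      rw [← pow_succ, Nat.sub_add_cancel (Nat.one_le_pow _ _ (Fact.out : p.Prime).pos), one_mul]
      exact Units.ext (by rw [Units.val_pow_eq_pow_val]; exact h1)
    have h3 := orderOf_dvd_of_pow_eq_one h2
    rw [hg] at h3
    have hlt : p ^ j < p ^ f := Nat.pow_lt_pow_right (Fact.out : p.Prime).one_lt hj
    have hpos : 1 < p ^ j := Nat.one_lt_pow (by omega) (Fact.out : p.Prime).one_lt
    have := Nat.le_of_dvd (by omega) h3
    omega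

variable {p f k : ℕ} [Fact p.Prime] [CharP F p] {a b : F}

local notation "ιM" => ((Fin k ⊕ Fin k) ⊕ Fin 2)
local notation "QM" => minusForm k F a b
local notation "KM" => QuadraticAlgebra F (-b) (-a)

/-- A vector of the plane as an element of the quadratic extension. -/
def psi (a b : F) (x : ιM → F) : QuadraticAlgebra F (-b) (-a) := ⟨x (Sum.inr 0), -x (Sum.inr 1)⟩

theorem q_split (x : ιM → F) : QM x =
    (∑ i, x (Sum.inl (Sum.inl i)) * x (Sum.inl (Sum.inr i))) + QuadraticAlgebra.norm (psi a b x) := by
  rw [minusForm_coe, Cfsg.quadFormMinus, QuadraticAlgebra.norm_def]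
  simp only [psi]
  ring

variable (p)

/-- The twisted Frobenius map. -/
def frobMap (a b : F) (x : ιM → F) : ιM → F :=
  Sum.elim (fun i => x (Sum.inl i) ^ p) ![(psi a b x ^ p).re, -(psi a b x ^ p).im]

theorem psi_frobMap (x : ιM → F) : psi a b (frobMap p a b x) = psi a b x ^ p := by
  refine QuadraticAlgebra.ext ?_ ?_ <;> simp [psi, frobMap]

theorem psi_iterate (x : ιM → F) (n : ℕ) : psi a b ((frobMap p a b)^[n] x) = psi a b x ^ p ^ n := by
  induction n with
  | zero => simp
  | succ n ih => rw [Function.iterate_succ_apply', psi_frobMap, ih, ← pow_mul, ← pow_succ]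

theorem inl_iterate (x : ιM → F) (n : ℕ) (i : Fin k ⊕ Fin k) :
    (frobMap p a b)^[n] x (Sum.inl i) = x (Sum.inl i) ^ p ^ n := by
  induction n with
  | zero => simp
  | succ n ih =>
    rw [Function.iterate_succ_apply']
    show ((frobMap p a b)^[n] x (Sum.inl i)) ^ p = _
    rw [ih, ← pow_mul, ← pow_succ]

variable (hab : Aniso a b)

include hab

theorem fact_aniso : Fact (∀ r : F, r ^ 2 ≠ -b + -a * r) :=
  ⟨fun r hr => one_ne_zero (hab r 1 (by linear_combination hr)).2⟩

/-- The conjugation of the plane is the map `z ↦ z ^ q`. -/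
theorem pow_card_star (hF : Fintype.card F = p ^ f) (z : KM) : z ^ p ^ f = star z := by
  haveI := fact_aniso hab
  haveI : CharP KM p := charP_of_injective_algebraMap (algebraMap F KM).injective p
  set w : KM := QuadraticAlgebra.omega
  have halg : ∀ c : F, (algebraMap F KM c) ^ p ^ f = algebraMap F KM c := fun c => by
    rw [← map_pow, ← hF, FiniteField.pow_card]
  have hw : w * w = algebraMap F KM (-b) + algebraMap F KM (-a) * w := by
    refine QuadraticAlgebra.ext ?_ ?_ <;> simp [w, QuadraticAlgebra.omega, QuadraticAlgebra.algebraMap_eq]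
  have hws : star w = algebraMap F KM (-a) - w := by
    refine QuadraticAlgebra.ext ?_ ?_ <;> simp [w, QuadraticAlgebra.omega, QuadraticAlgebra.algebraMap_eq]
  have hroot : (w ^ p ^ f - w) * (w ^ p ^ f - star w) = 0 := by
    have h1 := congrArg (· ^ p ^ f) hw
    simp only [add_pow_char_pow, mul_pow, halg] at h1
    rw [hws]
    linear_combination h1 - hw
  have hne : w ^ p ^ f - w ≠ 0 := by
    intro h
    classical
    let P : Polynomial KM := Polynomial.X ^ p ^ f - Polynomial.X
    have h1 : 1 < p ^ f := by rw [← hF]; exact Fintype.one_lt_card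
    have hP : P.natDegree = p ^ f := FiniteField.X_pow_card_sub_X_natDegree_eq KM h1
    have hP0 : P ≠ 0 := fun e => by rw [e, Polynomial.natDegree_zero] at hP; omega
    have hsub : (insert w ((Finset.univ : Finset F).image (algebraMap F KM))) ⊆ P.roots.toFinset := by
      intro z hz
      rw [Multiset.mem_toFinset, Polynomial.mem_roots hP0, Polynomial.IsRoot, Polynomial.eval_sub,
        Polynomial.eval_pow, Polynomial.eval_X]
      rcases Finset.mem_insert.1 hz with rfl | hz
      · exact h
      · obtain ⟨c, -, rfl⟩ := Finset.mem_image.1 hz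
        rw [halg, sub_self]
    have hnot : w ∉ (Finset.univ : Finset F).image (algebraMap F KM) := fun hm => by
      obtain ⟨c, -, hc⟩ := Finset.mem_image.1 hm
      have := congrArg QuadraticAlgebra.im hc
      simp [w, QuadraticAlgebra.omega, QuadraticAlgebra.algebraMap_eq] at this
    have h2 := (Finset.card_le_card hsub).trans ((Multiset.toFinset_card_le _).trans (Polynomial.card_roots' P))
    rw [Finset.card_insert_of_notMem hnot, Finset.card_image_of_injective _ (algebraMap F KM).injective,
      Finset.card_univ, hF, hP] at h2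
    omega
  have hwq : w ^ p ^ f = star w := sub_eq_zero.1 ((mul_eq_zero.1 hroot).resolve_left hne)
  have hz : z = algebraMap F KM z.re + algebraMap F KM z.im * w := by
    refine QuadraticAlgebra.ext ?_ ?_ <;> simp [w, QuadraticAlgebra.omega, QuadraticAlgebra.algebraMap_eq]
  conv_lhs => rw [hz]
  conv_rhs => rw [hz]
  rw [add_pow_char_pow, mul_pow, halg, halg, hwq, star_add, star_mul]
  have hs : ∀ c : F, star (algebraMap F KM c) = algebraMap F KM c := fun c => by
    refine QuadraticAlgebra.ext ?_ ?_ <;> simp [QuadraticAlgebra.algebraMap_eq]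
  rw [hs, hs, mul_comm (algebraMap F KM z.im)]

theorem axis_ne : 4 * b - a ^ 2 ≠ 0 := disc_ne_zero hab

variable (k) in
omit hab in
/-- The vector whose reflection is the conjugation. -/
def axis (a : F) : ιM → F := Sum.elim 0 ![a, -2]

theorem q_axis : QM (axis k a) = 4 * b - a ^ 2 := by
  simp [axis, minusForm_coe, Cfsg.quadFormMinus]
  ring

/-- The conjugation of the plane as an isometry. -/
noncomputable def conjRefl (k : ℕ) {a b : F} (hab : Aniso a b) :
    Cfsg.isometryGroup F (⇑(minusForm k F a b)) :=
  refl (minusForm k F a b) (axis k a) (by rw [q_axis hab]; exact axis_ne hab)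

/-- The twisted Frobenius semisimilarity. -/
theorem exists_twisted (hf : 1 ≤ f) (hF : Fintype.card F = p ^ f) :
    ∃ (g : GL ιM F), Cfsg.IsSemisimilarityPair (⇑QM) g (frobeniusEquiv F p) ∧
      ∀ x, (semiMap g (frobeniusEquiv F p))^[f] x = mat QM (conjRefl k hab) *ᵥ x := by
  haveI := fact_aniso hab
  haveI : CharP KM p := charP_of_injective_algebraMap (algebraMap F KM).injective p
  have hfr : ∀ x : F, (frobeniusEquiv F p) x = x ^ p := fun x => by rw [frobeniusEquiv_apply, frobenius_def]
  have hp0 : p ≠ 0 := (Fact.out : p.Prime).ne_zero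
  obtain ⟨g, hg⟩ : ∃ g : GL ιM F, ∀ x, semiMap g (frobeniusEquiv F p) x = frobMap p a b x := by
    refine exists_gl_semi (frobeniusEquiv F p) (frobMap p a b (k := k)) (fun x y => ?_) (fun c x => ?_)
      (fun x hx => ?_)
    · have e : psi a b (x + y) = psi a b x + psi a b y := by
        refine QuadraticAlgebra.ext ?_ ?_ <;> simp [psi]; ring
      funext i
      rcases i with i | i
      · simp [frobMap, add_pow_char]
      · fin_cases i <;> simp [frobMap, e, add_pow_char]; ring
    · have e : psi a b (c • x) = c • psi a b x := by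
        refine QuadraticAlgebra.ext ?_ ?_ <;> simp [psi]
      funext i
      rcases i with i | i
      · simp [frobMap, hfr, mul_pow]
      · fin_cases i <;> simp [frobMap, e, hfr, smul_pow]
    · have h0 : psi a b x ^ p = 0 := by
        rw [← psi_frobMap, hx]
        refine QuadraticAlgebra.ext ?_ ?_ <;> simp [psi]
      have h1 := (pow_eq_zero_iff hp0).1 h0
      funext i
      rcases i with i | i
      · have := congrFun hx (Sum.inl i)
        exact (pow_eq_zero_iff hp0).1 this
      · fin_cases i
        · exact congrArg QuadraticAlgebra.re h1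
        · simpa [psi] using congrArg QuadraticAlgebra.im h1
  refine ⟨g, ⟨1, fun x => ?_⟩, fun x => ?_⟩
  · show QM (semiMap g (frobeniusEquiv F p) x) = _
    rw [hg, q_split, q_split, psi_frobMap, map_pow, Units.val_one, one_mul, hfr, add_pow_char, sum_pow_char]
    simp [frobMap, mul_pow]
  · rw [show semiMap g (frobeniusEquiv F p) = frobMap p a b (k := k) from funext hg]
    have hstar : psi a b ((frobMap p a b)^[f] x) = star (psi a b x) := by
      rw [psi_iterate, pow_card_star p hab hF]
    have hre := congrArg QuadraticAlgebra.re hstar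
    have him := congrArg QuadraticAlgebra.im hstar
    simp [psi] at hre him
    have hB : QuadraticMap.polar (⇑QM) (axis k a) x = (a ^ 2 - 4 * b) * x (Sum.inr 1) := by
      simp [axis, QuadraticMap.polar, minusForm_coe, Cfsg.quadFormMinus]
      ring
    funext i
    show _ = (Cfsg.reflectionMatrix (⇑QM) (axis k a) *ᵥ x) i
    rw [mulVec_eq, q_axis hab, hB]
    have hd := axis_ne hab
    rcases i with i | i
    · rw [inl_iterate, ← hF, FiniteField.pow_card]
      simp [axis]
    · fin_cases i
      · simp [axis] at hre ⊢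
        rw [hre]
        field_simp
        ring
      · simp [axis] at him ⊢
        rw [← neg_inj, him]
        field_simp
        ring

end Cfsg.Lib.OrthOut
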